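import Cfsg.Agent.Lib.KGroups.M12TwoCentral.Model
import Cfsg.Agent.Lib.Sporadic.M12Out
import Cfsg.Prelude.Def_SporadicB

/-!
# The centralizer of a 2-central involution of the Mathieu group of degree twelve

It acts on the eight moved points of the dodecad as the signed permutations of four coordinates with
determinant one.
-/

set_option autoImplicit false
set_option maxRecDepth 40000

namespace CfsgLib.KGroups.M12TwoCentral.Cent

open Cfsg CfsgLib.SmallGroups.Golay CfsgLib.SmallGroups.GolayOctads CfsgLib.SmallGroups.M24Group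
  CfsgLib.SmallGroups.Mathieu CfsgLib.Sporadic.M12Out
open CfsgLib.Sporadic.M12Sylow (numbering pos inD eq_of_five pos_injective pos_inD el reach centre_fact
  exists_sylow mem_sylSub sylSub gen gen_lift el_lift)

/-- Generators, as tables. -/
def tbl : Fin 4 → Fin 24 → Fin 24 :=
  ![
    ![18, 6, 12, 9, 0, 21, 1, 11, 3, 2, 5, 7, 16, 13, 14, 23, 8, 10, 4, 22, 19, 15, 20, 17],
    ![18, 6, 8, 16, 13, 21, 1, 7, 2, 3, 10, 11, 9, 0, 22, 15, 12, 5, 4, 14, 19, 23, 20, 17],
    ![13, 3, 9, 1, 18, 7, 12, 5, 16, 2, 17, 23, 6, 0, 20, 21, 8, 10, 4, 22, 14, 15, 19, 11],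
    ![18, 9, 3, 6, 13, 7, 16, 17, 12, 2, 5, 21, 1, 0, 14, 23, 8, 15, 4, 22, 20, 10, 19, 11]]

/-- Their inverses. -/
def tblInv : Fin 4 → Fin 24 → Fin 24 :=
  ![
    ![4, 6, 9, 8, 18, 10, 1, 11, 16, 3, 17, 7, 2, 13, 14, 21, 12, 23, 0, 20, 22, 5, 19, 15],
    ![13, 6, 8, 9, 18, 17, 1, 7, 2, 12, 10, 11, 16, 4, 19, 15, 3, 23, 0, 20, 22, 5, 14, 21],
    ![13, 3, 9, 1, 18, 7, 12, 5, 16, 2, 17, 23, 6, 0, 20, 21, 8, 10, 4, 22, 14, 15, 19, 11],
    ![13, 12, 9, 2, 18, 10, 3, 5, 16, 1, 21, 23, 8, 4, 14, 17, 6, 7, 0, 22, 20, 11, 19, 15]]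

/-- Their codes. -/
def gcode : Fin 4 → Hyp192 := ![⟨27⟩, ⟨15⟩, ⟨128⟩, ⟨180⟩]

/-- For each code the exponents of the generators in a product equal to it, packed. -/
def expTab : ℕ := 1557954145362070580506943221147227435325324040815898535616952466293484550942752253526699537617163158986317375273550135179722355794457290310432948412219024828424740521632599839322531888022134834318476245967324707539172149657829850928177559447057364901159140247636753046737160576052476993712724692310743839859510851349883029854975216307207470560889649690078336379044985908893361993334619437992774236819478036149296660207007079880544768762210390369462042196452686336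

theorem tbl_inv : ∀ i q, tblInv i (tbl i q) = q ∧ tbl i (tblInv i q) = q := by decide +kernel

/-- The generators. -/
def perm (i : Fin 4) : Equiv.Perm (Fin 24) :=
  ⟨tbl i, tblInv i, fun q => (tbl_inv i q).1, fun q => (tbl_inv i q).2⟩

theorem perm_code : ∀ i, ∀ j < 12,
    isCW (mask fun p => word (bas j) (numbering.symm (perm i (numbering p)))) = true := by decide +kernel

theorem perm_square : ∀ i, dod.image (fun p => numbering.symm (perm i (numbering p))) = dod := by
  decide +kernel

/-- The central involution of the Sylow subgroup. -/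
def zt : Equiv.Perm (Fin 24) := el (reach 0)

/-- The eight moved points of the dodecad. -/
def num : Fin 8 → Fin 24 := ![1, 6, 2, 8, 3, 12, 9, 16]

theorem num_facts : (∀ a b, num a = num b → a = b) ∧ (∀ a, inD (num a) = true) ∧
    (∀ p : Fin 24, inD p = true → zt p ≠ p → ∃ a, num a = p) ∧ (∀ a, zt (num a) ≠ num a) := by
  decide +kernel

theorem zt_num : zt (num 0) = num 1 ∧ zt (num 2) = num 3 := by decide +kernel

theorem gens_facts : ∀ i, (∀ q, perm i (zt q) = zt (perm i q)) ∧
    ∀ a, perm i (num a) = num (Hyp192.act (gcode i) a) := by decide +kernel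

/-- The exponent word of a code. -/
def wordC (k : Fin 192) : List (Fin 4) :=
  let i := (expTab >>> (8 * k.val)) % 256
  List.replicate (i % 6) 0 ++ List.replicate (i / 6 % 4) 1 ++ List.replicate (i / 24 % 2) 2 ++
    List.replicate (i / 48) 3

theorem wordC_prod : ∀ k : Fin 192, ((wordC k).map gcode).prod = ⟨k⟩ := by decide +kernel

theorem gcode_surjective (K : Subgroup Hyp192) (h : ∀ i, gcode i ∈ K) : K = ⊤ :=
  eq_top_iff.2 fun a _ => by
    rw [show a = ⟨a.code⟩ from rfl, ← wordC_prod a.code]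
    exact Subgroup.list_prod_mem _ fun x hx => by
      obtain ⟨i, -, rfl⟩ := List.mem_map.1 hx
      exact h i

/-- The possible images of the three base points. -/
def triples : Finset (Fin 8 × Fin 8 × Fin 8) :=
  Finset.univ.filter fun p => p.1.val / 2 ≠ p.2.1.val / 2 ∧ p.2.2.val / 2 ≠ p.1.val / 2 ∧
    p.2.2.val / 2 ≠ p.2.1.val / 2

theorem card_triples : triples.card = 192 := by decide +kernel

theorem pair_of_ne : ∀ a b : Fin 8, num a ≠ num b → zt (num a) ≠ num b → a.val / 2 ≠ b.val / 2 := by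
  decide +kernel

theorem base_five : Function.Injective (![num 0, num 1, num 2, num 3, num 4] : Fin 5 → Fin 24) ∧
    ∀ i, inD ((![num 0, num 1, num 2, num 3, num 4] : Fin 5 → Fin 24) i) = true := by decide +kernel

theorem base_facts' : ∀ a b : Fin 8, a.val / 2 ≠ b.val / 2 → num a ≠ num b ∧ zt (num a) ≠ num b := by
  decide +kernel

/-- `g` acts on the eight points as `a`. -/
def IsAct (g : Cfsg.Spor.M12) (a : Hyp192) : Prop := ∀ q, pos g (num q) = num (Hyp192.act a q)

theorem isAct_mul {g h : Cfsg.Spor.M12} {a b : Hyp192} (hg : IsAct g a) (hh : IsAct h b) :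
    IsAct (g * h) (a * b) := fun q => by
  rw [map_mul, Equiv.Perm.mul_apply, hh q, hg, Hyp192.act_mul]

theorem isAct_one : IsAct 1 1 := fun q => by
  rw [map_one, Hyp192.act_one]
  rfl

theorem isAct_inv {g : Cfsg.Spor.M12} {a : Hyp192} (hg : IsAct g a) : IsAct g⁻¹ a⁻¹ := fun q => by
  rw [map_inv, Equiv.Perm.inv_eq_iff_eq, hg, ← Hyp192.act_mul, mul_inv_cancel, Hyp192.act_one]

theorem isAct_uniq {g : Cfsg.Spor.M12} {a b : Hyp192} (ha : IsAct g a) (hb : IsAct g b) : a = b :=
  Hyp192.act_injective (funext fun q => num_facts.1 _ _ ((ha q).symm.trans (hb q)))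

/-- The centralizer of an involution with the given action is the model. -/
theorem equiv_of_pos {t : Cfsg.Spor.M12} (ht : pos t = zt) :
    Nonempty (Hyp192 ≃* ↥(Subgroup.centralizer ({t} : Set Cfsg.Spor.M12))) := by
  classical
  set C := Subgroup.centralizer ({t} : Set Cfsg.Spor.M12)
  have hcomm : ∀ (g : C) (q : Fin 24), pos g.1 (zt q) = zt (pos g.1 q) := fun g q => by
    rw [← Equiv.Perm.mul_apply, ← Equiv.Perm.mul_apply, ← ht, ← map_mul, ← map_mul,
      Subgroup.mem_centralizer_singleton_iff.1 g.2]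
  have him : ∀ (g : C) (a : Fin 8), ∃ b, num b = pos g.1 (num a) := fun g a =>
    num_facts.2.2.1 _ ((pos_inD g.1 _).2 (num_facts.2.1 a)) fun e =>
      num_facts.2.2.2 a ((pos g.1).injective ((hcomm g _).trans e))
  choose im him using him
  -- at most 192 elements
  have hle : Nat.card C ≤ 192 := by
    rw [← card_triples, ← Fintype.card_coe, ← Nat.card_eq_fintype_card]
    have hne : ∀ (g : C) (a b : Fin 8), a.val / 2 ≠ b.val / 2 → (im g a).val / 2 ≠ (im g b).val / 2 :=
      fun g a b hab => by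
        refine pair_of_ne _ _ (fun e => (base_facts' a b hab).1 ((pos g.1).injective ?_)) fun e =>
          (base_facts' a b hab).2 ((pos g.1).injective ?_)
        · rw [← him, ← him, e]
        · rw [hcomm, ← him, ← him, e]
    refine Nat.card_le_card_of_injective (fun g : C => (⟨(im g 0, im g 2, im g 4), Finset.mem_filter.2
      ⟨Finset.mem_univ _, hne g 0 2 (by decide), hne g 4 0 (by decide), hne g 4 2 (by decide)⟩⟩ : triples)) ?_
    intro g g' hgg
    have h0 : im g 0 = im g' 0 := congrArg (fun p : triples => p.1.1) hgg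
    have h2 : im g 2 = im g' 2 := congrArg (fun p : triples => p.1.2.1) hgg
    have h4 : im g 4 = im g' 4 := congrArg (fun p : triples => p.1.2.2) hgg
    have e0 : pos g.1 (num 0) = pos g'.1 (num 0) := by rw [← him, ← him, h0]
    have e2 : pos g.1 (num 2) = pos g'.1 (num 2) := by rw [← him, ← him, h2]
    refine Subtype.ext (eq_of_five g.1 g'.1 _ base_five.1 base_five.2 fun i => ?_)
    fin_cases i
    · exact e0
    · show pos g.1 (num 1) = pos g'.1 (num 1)
      rw [← zt_num.1, hcomm, hcomm, e0]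
    · exact e2
    · show pos g.1 (num 3) = pos g'.1 (num 3)
      rw [← zt_num.2, hcomm, hcomm, e2]
    · show pos g.1 (num 4) = pos g'.1 (num 4)
      rw [← him, ← him, h4]
  let L : Subgroup C :=
    { carrier := {g | ∃ a, IsAct g.1 a}
      one_mem' := ⟨1, isAct_one⟩
      mul_mem' := fun ⟨a, ha⟩ ⟨b, hb⟩ => ⟨a * b, isAct_mul ha hb⟩
      inv_mem' := fun ⟨a, ha⟩ => ⟨a⁻¹, isAct_inv ha⟩ }
  let ψ : L →* Hyp192 := MonoidHom.mk' (fun g => Classical.choose g.2) fun g h =>
    isAct_uniq (Classical.choose_spec (g * h).2) (isAct_mul (Classical.choose_spec g.2) (Classical.choose_spec h.2))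
  have hψ : ∀ (g : L) {a : Hyp192}, IsAct g.1.1 a → ψ g = a := fun g a h =>
    isAct_uniq (Classical.choose_spec g.2) h
  have hgen : ∀ i, gcode i ∈ ψ.range := fun i => by
    obtain ⟨g, hg⟩ := lift (perm_code i) (perm_square i)
    have hgC : g ∈ C := Subgroup.mem_centralizer_singleton_iff.2 (pos_injective (Equiv.ext fun q => by
      rw [map_mul, map_mul, ht, hg]
      exact (gens_facts i).1 q))
    have hl : IsAct g (gcode i) := fun a => by rw [hg]; exact (gens_facts i).2 a
    exact ⟨⟨⟨g, hgC⟩, gcode i, hl⟩, hψ _ hl⟩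
  have hsurj : Function.Surjective ψ := MonoidHom.range_eq_top.1 (gcode_surjective _ hgen)
  have h192 : 192 ≤ Nat.card L := by
    rw [← Hyp192.card_eq]
    exact Nat.card_le_card_of_surjective _ hsurj
  have hLC : L = ⊤ := Subgroup.eq_top_of_le_card L (by omega)
  have hbij : Function.Bijective ψ := hsurj.bijective_of_nat_card_le (by
    rw [Hyp192.card_eq, hLC, Subgroup.card_top]; exact hle)
  exact ⟨((Subgroup.topEquiv.symm.trans (MulEquiv.subgroupCongr hLC.symm)).trans
    (MulEquiv.ofBijective ψ hbij)).symm⟩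

/-- A 2-central involution is conjugate to the distinguished one. -/
theorem exists_conj {u : Cfsg.Spor.M12} (hu : Cfsg.IsTwoCentralInvolution u) :
    ∃ g : Cfsg.Spor.M12, pos (g * u * g⁻¹) = zt := by
  haveI : Fact (Nat.Prime 2) := ⟨Nat.prime_two⟩
  obtain ⟨ho, P, huP, hc⟩ := hu
  obtain ⟨Q, hQ⟩ := exists_sylow
  obtain ⟨g, hg⟩ := MulAction.exists_smul_eq Cfsg.Spor.M12 P Q
  have hmem : ∀ x ∈ sylSub, g⁻¹ * x * g ∈ (P : Subgroup Cfsg.Spor.M12) := fun x hx => by
    rw [← hQ, ← hg, Sylow.coe_subgroup_smul, Subgroup.mem_pointwise_smul_iff_inv_smul_mem] at hx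
    simpa [MulAut.smul_def] using hx
  have huQ : g * u * g⁻¹ ∈ sylSub := by
    rw [← hQ, ← hg, Sylow.coe_subgroup_smul, Subgroup.mem_pointwise_smul_iff_inv_smul_mem]
    simpa [MulAut.smul_def, mul_assoc, SetLike.mem_coe] using (show u ∈ (P : Subgroup Cfsg.Spor.M12) from huP)
  obtain ⟨k, hk⟩ := mem_sylSub.1 huQ
  refine ⟨g, ?_⟩
  rw [← hk]
  have hcom : ∀ i q, el k (gen i q) = gen i (el k q) := fun i q => by
    obtain ⟨x, hx⟩ := gen_lift i
    have hxs : x ∈ sylSub := Subgroup.mem_comap.2 (hx ▸ Subgroup.subset_closure ⟨i, rfl⟩)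
    have h := hc _ (hmem x hxs)
    have h' : x * (g * u * g⁻¹) = g * u * g⁻¹ * x :=
      calc x * (g * u * g⁻¹) = g * (g⁻¹ * x * g * u) * g⁻¹ := by group
        _ = g * (u * (g⁻¹ * x * g)) * g⁻¹ := by rw [h]
        _ = g * u * g⁻¹ * x := by group
    have e := DFunLike.congr_fun (congrArg pos h') q
    rw [map_mul, map_mul _ _ x, ← hk, hx] at e
    exact e.symm
  rcases centre_fact k hcom with h | h
  · exfalso
    have h1 : g * u * g⁻¹ = 1 := pos_injective (by rw [← hk, map_one]; exact Equiv.ext h)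
    rw [conj_eq_one_iff.1 h1, orderOf_one] at ho
    omega
  · exact Equiv.ext h

end CfsgLib.KGroups.M12TwoCentral.Cent

namespace CfsgLib.KGroups.M12TwoCentral

/-- The centralizer of a 2-central involution is the model. -/
theorem centralizerEquiv (u : ↥Cfsg.Spor.M12) (hu : Cfsg.IsTwoCentralInvolution u) :
    Nonempty (CfsgLib.KGroups.M12TwoCentral.Hyp192 ≃* ↥(Subgroup.centralizer ({u} : Set ↥Cfsg.Spor.M12))) := by
  obtain ⟨g, hg⟩ := Cent.exists_conj hu
  obtain ⟨e⟩ := Cent.equiv_of_pos hg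
  have hmap : (Subgroup.centralizer ({u} : Set ↥Cfsg.Spor.M12)).map (MulAut.conj g).toMonoidHom =
      Subgroup.centralizer ({g * u * g⁻¹} : Set ↥Cfsg.Spor.M12) := by
    ext x
    rw [Subgroup.mem_map_equiv, Subgroup.mem_centralizer_singleton_iff, Subgroup.mem_centralizer_singleton_iff,
      MulAut.conj_symm_apply]
    constructor <;> intro h
    · calc x * (g * u * g⁻¹) = g * (g⁻¹ * x * g * u) * g⁻¹ := by group
        _ = g * (u * (g⁻¹ * x * g)) * g⁻¹ := by rw [h]
        _ = g * u * g⁻¹ * x := by group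
    · calc g⁻¹ * x * g * u = g⁻¹ * (x * (g * u * g⁻¹)) * g := by group
        _ = g⁻¹ * (g * u * g⁻¹ * x) * g := by rw [h]
        _ = u * (g⁻¹ * x * g) := by group
  exact ⟨(e.trans (MulEquiv.subgroupCongr hmap.symm)).trans
    ((Subgroup.centralizer ({u} : Set ↥Cfsg.Spor.M12)).equivMapOfInjective _
      (MulAut.conj g).injective).symm⟩

end CfsgLib.KGroups.M12TwoCentral
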