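import Cfsg.Agent.S3277
import Cfsg.Agent.Lib.Involution.KleinSylow
import Cfsg.Agent.Lib.Involution.Count
import Cfsg.Agent.Lib.Char.Perm

/-!
# Groups with a four-group Sylow subgroup that is the centraliser of an involution
-/

set_option autoImplicit false
set_option linter.unusedSectionVars false
set_option linter.style.haveILetI false

namespace CfsgLib.KGroups.M12TwoCentral.FourSylow

open Subgroup CfsgLib.Involution.Dihedral

variable {W : Type*} [Group W] [Finite W] (P : Sylow 2 W) (hP : IsKleinFour (P : Subgroup W))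
  {z : W} (hz : orderOf z = 2) (hzP : z ∈ P) (hC : Nat.card (centralizer ({z} : Set W)) = 4)

/-- The ordered pairs of involutions with product of odd order. -/
def OddInv (W : Type*) [Group W] : Set (W × W) :=
  {p | orderOf p.1 = 2 ∧ orderOf p.2 = 2 ∧ Odd (orderOf (p.1 * p.2))}

include hP hzP hC

theorem cent_eq : centralizer ({z} : Set W) = (P : Subgroup W) := by
  refine (Subgroup.eq_of_le_of_card_ge (fun x hx => mem_centralizer_singleton_iff.2
    (CfsgLib.Involution.KleinSylow.comm P hP hx hzP)) ?_).symm
  rw [hC, hP.card_four]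

theorem cent_abelian {x y : W} (hx : Commute x z) (hy : Commute y z) : Commute x y :=
  CfsgLib.Involution.KleinSylow.comm P hP
    (cent_eq P hP hzP hC ▸ (mem_centralizer_singleton_iff.2 hx.eq : x ∈ centralizer ({z} : Set W)) :)
    (cent_eq P hP hzP hC ▸ (mem_centralizer_singleton_iff.2 hy.eq : y ∈ centralizer ({z} : Set W)) :)

include hz

theorem all_conj (hnc : ¬ Cfsg.HasNormalPComplement 2 W) {x : W} (hx : orderOf x = 2) : IsConj z x := by
  rcases CfsgLib.Involution.KleinSylow.card_classes_dichotomy P hP with ⟨-, h⟩ | ⟨-, h⟩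
  · obtain ⟨N, hN, hcompl⟩ := (CfsgLib.Involution.KleinSylow.three_iff_complement P hP).1 h
    exact absurd ⟨P, N, hN, hcompl⟩ hnc
  · rw [Nat.card_eq_one_iff_unique] at h
    have := h.1.elim ⟨_, z, hz, rfl⟩ ⟨_, x, hx, rfl⟩
    exact ConjClasses.mk_eq_mk_iff_isConj.1 (congrArg Subtype.val this)

theorem card_cases (hnc : ¬ Cfsg.HasNormalPComplement 2 W) : Nat.card W = 12 ∨ Nat.card W = 60 := by
  classical
  haveI : Fact (Nat.Prime 2) := ⟨Nat.prime_two⟩
  haveI := Fintype.ofFinite W
  by_cases h4 : ∀ E : Subgroup W, E.Normal → Cfsg.IsElementaryAbelian 2 E → Nat.card ↥E ≠ 2 ∧ Nat.card ↥E ≠ 4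
  · obtain ⟨e⟩ := Cfsg.Agent.S3277.result z hz hC
      (fun c hc => by
        have h := Monoid.pow_exponent_eq_one (⟨c, cent_eq P hP hzP hC ▸ hc⟩ : (P : Subgroup W))
        rw [hP.exponent_two] at h
        exact congrArg Subtype.val h) hnc h4
    exact Or.inr (by rw [Nat.card_congr e.toEquiv, nat_card_alternatingGroup, Nat.card_fin]; decide)
  · push Not at h4
    obtain ⟨E, hE, -, hcard⟩ := h4
    have hcard' : Nat.card E = 2 ∨ Nat.card E = 4 := by
      by_cases h : Nat.card E = 2
      · exact Or.inl h
      · exact Or.inr (hcard h)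
    have hE2 : IsPGroup 2 E := by
      rcases hcard' with h | h
      · exact IsPGroup.of_card (n := 1) (by rw [h, pow_one])
      · exact IsPGroup.of_card (n := 2) (by rw [h]; norm_num)
    have hEP : E ≤ (P : Subgroup W) := by
      have hs : IsPGroup 2 ↥((P : Subgroup W) ⊔ E) := IsPGroup.to_sup_of_normal_right P.2 hE2
      rw [← P.3 hs le_sup_left]
      exact le_sup_right
    rcases hcard' with h2 | h4'
    · exfalso
      obtain ⟨e, he⟩ := exists_prime_orderOf_dvd_card' (G := E) 2 (h2 ▸ dvd_rfl)
      have he' : orderOf (e : W) = 2 := by rw [Subgroup.orderOf_coe, he]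
      have htop : ∀ g : W, Commute g (e : W) := fun g => by
        have hm := hE.conj_mem _ e.2 g
        have h1 : (⟨_, hm⟩ : E) ≠ 1 := fun h => ne_one he' (conj_eq_one_iff.1 (congrArg Subtype.val h))
        obtain ⟨y, hy⟩ := (Nat.card_eq_two_iff' (1 : E)).1 h2
        have : (⟨_, hm⟩ : E) = e := (hy.2 _ h1).trans (hy.2 _ (fun h => by rw [h, orderOf_one] at he; omega)).symm
        exact mul_inv_eq_iff_eq_mul.1 (congrArg Subtype.val this)
      obtain ⟨g, hg⟩ := isConj_iff.1 (all_conj P hP hz hzP hC hnc he')
      have hCtop : centralizer ({z} : Set W) = ⊤ := eq_top_iff.2 fun y _ => mem_centralizer_singleton_iff.2 (by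
        have h' := htop (g * y * g⁻¹)
        rw [← hg] at h'
        calc y * z = g⁻¹ * (g * y * g⁻¹ * (g * z * g⁻¹)) * g := by group
          _ = g⁻¹ * (g * z * g⁻¹ * (g * y * g⁻¹)) * g := by rw [h'.eq]
          _ = z * y := by group)
      refine hnc ⟨P, ⊥, inferInstance, ?_⟩
      rw [cent_eq P hP hzP hC] at hCtop
      rw [hCtop]
      exact Subgroup.isComplement'_bot_top
    · left
      have hEeq : E = (P : Subgroup W) := Subgroup.eq_of_le_of_card_ge hEP (by rw [hP.card_four, h4'])
      have hset : ({u : W | IsConj z u} : Finset W) = ((Finset.univ : Finset W).filter fun u => u ∈ E).erase 1 := by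
        ext u
        simp only [Finset.mem_filter, Finset.mem_univ, true_and, Finset.mem_erase]
        constructor
        · intro hu
          obtain ⟨g, rfl⟩ := isConj_iff.1 hu
          exact ⟨fun h => ne_one hz (conj_eq_one_iff.1 h), hE.conj_mem _ (by rw [hEeq]; exact hzP) g⟩
        · rintro ⟨h1, hu⟩
          exact all_conj P hP hz hzP hC hnc (CfsgLib.Involution.KleinSylow.order_two P hP (hEP hu) h1)
      have h := CfsgLib.Involution.Count.card_eq_class_mul z
      rw [hC, hset, Finset.card_erase_of_mem (by simp [E.one_mem]),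
        show ((Finset.univ : Finset W).filter fun u => u ∈ E).card = 4 by
          rw [← h4', Nat.card_eq_fintype_card, Fintype.card_subtype]] at h
      omega

theorem card_oddInv (hnc : ¬ Cfsg.HasNormalPComplement 2 W) {I : ℕ} (hI : Nat.card W = I * 4) :
    Nat.card (OddInv W) = I * (I - 2) := by
  classical
  haveI := Fintype.ofFinite W
  set T := (Finset.univ : Finset W).filter fun u => orderOf u = 2 with hT
  have hTI : T.card = I := by
    have h := CfsgLib.Involution.Count.card_eq_class_mul z
    rw [hC, hI, show ({u : W | IsConj z u} : Finset W) = T from by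
      ext u
      simp only [hT, Finset.mem_filter, Finset.mem_univ, true_and]
      refine ⟨fun hu => ?_, fun hu => all_conj P hP hz hzP hC hnc hu⟩
      obtain ⟨g, rfl⟩ := isConj_iff.1 hu
      rw [orderOf_conj, hz]] at h
    omega
  have hrow : ∀ x ∈ T, (T.filter fun y => Odd (orderOf (x * y))).card = I - 2 := by
    intro x hx
    simp only [hT, Finset.mem_filter, Finset.mem_univ, true_and] at hx
    obtain ⟨g, hg⟩ := isConj_iff.1 (all_conj P hP hz hzP hC hnc hx)
    have hev : (T.filter fun y => ¬ Odd (orderOf (x * y))) =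
        (((Finset.univ : Finset W).filter fun y => y ∈ (centralizer ({x} : Set W))).erase 1).erase x := by
      ext y
      simp only [hT, Finset.mem_filter, Finset.mem_univ, true_and, Finset.mem_erase, Nat.not_odd_iff_even,
        mem_centralizer_singleton_iff]
      constructor
      · rintro ⟨hy, hev⟩
        have hne : y ≠ x := fun e => by
          rw [e, mul_self hx, orderOf_one] at hev
          exact Nat.not_even_one hev
        refine ⟨hne, ne_one hy, ?_⟩
        have hv := half_orderOf hev
        obtain ⟨k, hk⟩ := isConj_iff.1 (all_conj P hP hz hzP hC hnc hv)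
        have key : ∀ w : W, Commute w ((x * y) ^ (orderOf (x * y) / 2)) → Commute (k⁻¹ * w * k) z := fun w hw => by
          rw [← hk] at hw
          show k⁻¹ * w * k * z = z * (k⁻¹ * w * k)
          calc k⁻¹ * w * k * z = k⁻¹ * (w * (k * z * k⁻¹)) * k := by group
            _ = k⁻¹ * (k * z * k⁻¹ * w) * k := by rw [hw.eq]
            _ = _ := by group
        have hc := cent_abelian P hP hzP hC (key y (half_commute_right hx hy hev).symm)
          (key x (half_commute_left hx hy hev).symm)
        calc y * x = k * (k⁻¹ * y * k * (k⁻¹ * x * k)) * k⁻¹ := by group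
          _ = k * (k⁻¹ * x * k * (k⁻¹ * y * k)) * k⁻¹ := by rw [hc.eq]
          _ = x * y := by group
      · rintro ⟨hne, h1, hc⟩
        have hy2 : orderOf y = 2 := by
          have hc' : Commute (g⁻¹ * y * g) z := by
            show g⁻¹ * y * g * z = z * (g⁻¹ * y * g)
            calc g⁻¹ * y * g * z = g⁻¹ * (y * x) * g := by rw [← hg]; group
              _ = g⁻¹ * (x * y) * g := by rw [hc]
              _ = _ := by rw [← hg]; group
          have hm : g⁻¹ * y * g ∈ (P : Subgroup W) :=
            cent_eq P hP hzP hC ▸ mem_centralizer_singleton_iff.2 hc'.eq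
          have := CfsgLib.Involution.KleinSylow.order_two P hP hm (fun e => h1 (by
            rw [show y = g * (g⁻¹ * y * g) * g⁻¹ by group, e]; group))
          rwa [← orderOf_conj g, show g * (g⁻¹ * y * g) * g⁻¹ = y by group] at this
        refine ⟨hy2, ?_⟩
        have h2 : orderOf (x * y) = 2 := orderOf_eq_two
          (by rw [(show Commute y x from hc).mul_mul_mul_comm, mul_self hx, mul_self hy2, one_mul])
          (fun e => hne (by rw [← inv_eq hx]; exact (inv_eq_of_mul_eq_one_right e).symm))
        rw [h2]
        exact ⟨1, rfl⟩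
    have hc4 : ((Finset.univ : Finset W).filter fun y => y ∈ (centralizer ({x} : Set W))).card = 4 := by
      rw [← Fintype.card_subtype, ← Nat.card_eq_fintype_card]
      show Nat.card (centralizer ({x} : Set W)) = 4
      rw [← hC, CfsgLib.Char.card_centralizer_eq_of_isConj (all_conj P hP hz hzP hC hnc hx)]
    have hsum := Finset.card_filter_add_card_filter_not (s := T) (fun y => Odd (orderOf (x * y)))
    rw [hev, Finset.card_erase_of_mem (by simp [ne_one hx, mem_centralizer_singleton_iff]),
      Finset.card_erase_of_mem (by simp [Subgroup.one_mem]), hc4, hTI] at hsum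
    omega
  calc Nat.card (OddInv W)
      = ((T ×ˢ T).filter fun p => Odd (orderOf (p.1 * p.2))).card := by
        rw [← Nat.card_eq_finsetCard]
        exact Nat.card_congr (Equiv.subtypeEquivRight fun p => by
          simp [OddInv, hT, and_assoc])
    _ = ∑ x ∈ T, (T.filter fun y => Odd (orderOf (x * y))).card := by
        rw [Finset.card_filter, Finset.sum_product]
        simp only [Finset.card_filter]
    _ = I * (I - 2) := by rw [Finset.sum_congr rfl hrow, Finset.sum_const, hTI, smul_eq_mul]

end CfsgLib.KGroups.M12TwoCentral.FourSylow
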