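import Cfsg.Agent.Lib.Fusion.ThompsonTransfer

/-!
# Subgroups of index two of a subgroup, from transfer
-/

set_option autoImplicit false
set_option linter.unusedSectionVars false

namespace CfsgLib.KGroups.M12TwoCentral

open Subgroup

/-- `N` is a subgroup of index two of `H`. -/
structure IsHalf {G : Type*} [Group G] (H N : Subgroup G) : Prop where
  le : N ≤ H
  mul_iff : ∀ x ∈ H, ∀ y ∈ H, (x * y ∈ N ↔ (x ∈ N ↔ y ∈ N))
  card : Nat.card H = 2 * Nat.card N

namespace IsHalf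

variable {G : Type*} [Group G] {H N : Subgroup G} (h : IsHalf H N)
include h

theorem inv_iff {x : G} : x⁻¹ ∈ N ↔ x ∈ N := Subgroup.inv_mem_iff N

theorem conj_iff {k x : G} (hk : k ∈ H) (hx : x ∈ H) : k * x * k⁻¹ ∈ N ↔ x ∈ N := by
  rw [h.mul_iff _ (H.mul_mem hk hx) _ (H.inv_mem hk), h.mul_iff _ hk _ hx, h.inv_iff]
  tauto

theorem commutator_mem {x y : G} (hx : x ∈ H) (hy : y ∈ H) : x⁻¹ * y⁻¹ * (x * y) ∈ N := by
  rw [h.mul_iff _ (H.mul_mem (H.inv_mem hx) (H.inv_mem hy)) _ (H.mul_mem hx hy),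
    h.mul_iff _ (H.inv_mem hx) _ (H.inv_mem hy), h.mul_iff _ hx _ hy, h.inv_iff, h.inv_iff]

theorem card_inf [Finite G] {L : Subgroup G} (hL : L ≤ H) {a : G} (ha : a ∈ L) (haN : a ∉ N) :
    Nat.card L = 2 * Nat.card ↥(L ⊓ N) := by
  have hidx : (N.subgroupOf L).index = 2 := by
    refine Subgroup.index_eq_two_iff.2 ⟨⟨a, ha⟩, fun b => ?_⟩
    simp only [Subgroup.mem_subgroupOf, Subgroup.coe_mul]
    have hm := h.mul_iff _ (hL b.2) _ (hL ha)
    by_cases hb : (b : G) ∈ N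
    · exact Or.inr ⟨hb, fun hc => haN ((hm.1 hc).1 hb)⟩
    · exact Or.inl ⟨hm.2 ⟨fun h' => absurd h' hb, fun h' => absurd h' haN⟩, hb⟩
  have h1 := (N.subgroupOf L).card_mul_index
  rw [hidx, ← Subgroup.inf_subgroupOf_right N L, inf_comm N L,
    Nat.card_congr (Subgroup.subgroupOfEquivOfLe (inf_le_left : L ⊓ N ≤ L)).toEquiv] at h1
  omega

end IsHalf

variable {G : Type*} [Group G] [Finite G]

/-- Thompson transfer inside a subgroup. -/
theorem exists_half {H E Q : Subgroup G} (hEH : E ≤ H) (hE : IsPGroup 2 E)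
    (hodd : ¬ 2 ∣ (E.subgroupOf H).index) (hQE : Q ≤ E) (hQ : Nat.card E = 2 * Nat.card Q)
    {u : G} (hu : u * u = 1) (huE : u ∈ E) (huQ : u ∉ Q) (hno : ∀ k ∈ H, k * u * k⁻¹ ∉ Q) :
    ∃ N : Subgroup G, IsHalf H N ∧ u ∉ N := by
  haveI : Fact (Nat.Prime 2) := ⟨Nat.prime_two⟩
  let P : Sylow 2 H := (hE.of_equiv (Subgroup.subgroupOfEquivOfLe hEH).symm).toSylow hodd
  have hPQ : Q.subgroupOf H ≤ (P : Subgroup H) := fun x hx =>
    Subgroup.mem_subgroupOf.2 (hQE (Subgroup.mem_subgroupOf.1 hx))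
  have hidx : (Q.subgroupOf H).relIndex (P : Subgroup H) = 2 := by
    have h := Subgroup.card_mul_index ((Q.subgroupOf H).subgroupOf (P : Subgroup H))
    rw [Nat.card_congr (Subgroup.subgroupOfEquivOfLe hPQ).toEquiv, ← Subgroup.relIndex,
      Nat.card_congr (Subgroup.subgroupOfEquivOfLe (hQE.trans hEH)).toEquiv,
      show Nat.card (P : Subgroup H) = Nat.card E from
        Nat.card_congr (Subgroup.subgroupOfEquivOfLe hEH).toEquiv, hQ, mul_comm 2] at h
    exact Nat.eq_of_mul_eq_mul_left Nat.card_pos h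
  rcases CfsgLib.Fusion.ThompsonTransfer.thompson_transfer P _ hPQ hidx ⟨u, hEH huE⟩
      (Subtype.ext (by rw [pow_two]; exact hu)) (Subgroup.mem_subgroupOf.2 huE)
      (fun h => huQ (Subgroup.mem_subgroupOf.1 h)) with ⟨M, hM, hMi, huM⟩ | ⟨k, hk⟩
  · refine ⟨M.map H.subtype, ⟨?_, fun x hx y hy => ?_, ?_⟩, fun h => huM ?_⟩
    · exact Subgroup.map_subtype_le M
    · have h := Subgroup.mul_mem_iff_of_index_two hMi (a := ⟨x, hx⟩) (b := ⟨y, hy⟩)
      have e : ∀ (w : G) (hw : w ∈ H), w ∈ M.map H.subtype ↔ (⟨w, hw⟩ : H) ∈ M := fun w hw =>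
        Subgroup.mem_map_iff_mem Subtype.val_injective (x := (⟨w, hw⟩ : H))
      rw [e _ (H.mul_mem hx hy), e _ hx, e _ hy]
      exact h
    · rw [Nat.card_congr (Subgroup.equivMapOfInjective M H.subtype Subtype.val_injective).toEquiv.symm,
        ← hMi, mul_comm]
      exact M.card_mul_index.symm
    · exact (Subgroup.mem_map_iff_mem Subtype.val_injective (x := (⟨u, hEH huE⟩ : H))).1 h
  · exact absurd (Subgroup.mem_subgroupOf.1 hk) (hno k k.2)

end CfsgLib.KGroups.M12TwoCentral
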