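import Cfsg.Agent.Lib.KGroups.M12TwoCentral.Fusion
import Cfsg.Agent.Lib.KGroups.M12TwoCentral.FourSylow
import Cfsg.Agent.Lib.KGroups.M12TwoCentral.Halves
import Cfsg.Agent.Lib.Involution.OrderFormula

/-!
# The centraliser of the second class of involutions
-/

set_option autoImplicit false
set_option linter.unusedSectionVars false
set_option linter.style.haveILetI false

namespace CfsgLib.KGroups.M12TwoCentral

open Hyp192 Subgroup CfsgLib.Involution.Dihedral
open CfsgLib.Involution.OrderFormula (Pairs)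

/-- A Boolean test on the two complements. -/
theorem subA_check : All192 fun x => !inMask 56146590541954846471456810226241754890405 x ||
    Nat.beq x 0 || Nat.beq x 128 || Nat.beq x 7 || Nat.beq x 5 || Nat.beq x 2 ||
      Nat.beq (mulN x 128) 7 || Nat.beq (mulN x 128) 5 || Nat.beq (mulN x 128) 2 := by decide +kernel

theorem subA_cases {x : Hyp192} (hx : x ∈ subA) :
    x = 1 ∨ x = bM ∨ (x = zM ∨ x = aM ∨ x = zaM) ∨ x * bM = zM ∨ x * bM = aM ∨ x * bM = zaM := by
  have h := test subA_check x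
  rw [mem_subA.1 hx] at h
  simp only [Bool.not_true, Bool.false_or, Bool.or_eq_true, Nat.beq_eq] at h
  simp only [Hyp192.eq_iff, code_mul, code_one, code_bM, code_zM, code_aM, code_zaM]
  tauto

theorem subD_le {x : Hyp192} (hx : x ∈ subD) : x ∈ centralizer ({bM} : Set Hyp192) := by
  have h : All192 fun x => !inMask 11889503016258109605 x || commC x 128 := by decide +kernel
  have h' := test h x
  rw [mem_subD.1 hx] at h'
  simp only [Bool.not_true, Bool.false_or] at h'
  exact mem_centralizer_singleton_iff.2 (commute_iff.2 (code_bM.symm ▸ h')).eq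

theorem subA_le {x : Hyp192} (hx : x ∈ subA) : x ∈ centralizer ({bM} : Set Hyp192) := by
  have h : All192 fun x => !inMask 56146590541954846471456810226241754890405 x || commC x 128 := by decide +kernel
  have h' := test h x
  rw [mem_subA.1 hx] at h'
  simp only [Bool.not_true, Bool.false_or] at h'
  exact mem_centralizer_singleton_iff.2 (commute_iff.2 (code_bM.symm ▸ h')).eq

theorem bM_not_mem_subD : bM ∉ subD := fun h => by
  have := mem_subD.1 h
  revert this
  decide +kernel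

/-- Facts about the two choices of representatives modulo `bM`. -/
theorem choice_facts : ∀ α υ : Hyp192, (α = aM ∨ α = aM * bM) → (υ = uM ∨ υ = uM * bM) →
    α⁻¹ * υ⁻¹ * (α * υ) = zM ∧ (α * υ) * (α * υ) = zM ∧ zM * α ≠ υ ∧ υ ∉ subA ∧ α ∈ subA ∧
      υ ∈ centralizer ({bM} : Set Hyp192) ∧ α ∈ centralizer ({bM} : Set Hyp192) ∧ orderOf α = 2 ∧ orderOf υ = 2 ∧
      IsConj bM υ ∧ IsConj bM (υ * bM) ∧ α ≠ υ := by
  rintro α υ (rfl | rfl) (rfl | rfl) <;>
    refine ⟨Hyp192.eq_iff.2 (by decide +kernel), Hyp192.eq_iff.2 (by decide +kernel), by decide +kernel,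
      fun h => absurd (mem_subA.1 h) (by decide +kernel), mem_subA.2 (by decide +kernel),
      mem_centralizer_singleton_iff.2 (Hyp192.eq_iff.2 (by decide +kernel)),
      mem_centralizer_singleton_iff.2 (Hyp192.eq_iff.2 (by decide +kernel)),
      orderOf_eq_two (Hyp192.eq_iff.2 (by decide +kernel)) (by decide +kernel),
      orderOf_eq_two (Hyp192.eq_iff.2 (by decide +kernel)) (by decide +kernel),
      isConj_b.2 (by decide +kernel), isConj_b.2 (by decide +kernel), by decide +kernel⟩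

/-- Pairs of conjugates of `t` centralising `B` with product of odd order. -/
def OddZ {G : Type*} [Group G] (t B : G) : Set (G × G) :=
  {p | (IsConj t p.1 ∧ Commute p.1 B) ∧ (IsConj t p.2 ∧ Commute p.2 B) ∧ Odd (orderOf (p.1 * p.2))}

namespace Emb

variable {G : Type*} [Group G] [Finite G] (S : Emb G)

/-- The centraliser of the second class. -/
def cB : Subgroup G := centralizer ({S.hom bM} : Set G)

/-- Its intersection with the centraliser of `t`. -/
def cE : Subgroup G := (centralizer ({bM} : Set Hyp192)).map S.hom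

theorem cE_le : S.cE ≤ S.cB := by
  rintro _ ⟨x, hx, rfl⟩
  exact mem_centralizer_singleton_iff.2 (S.commute_hom_iff.2 (mem_centralizer_singleton_iff.1 hx)).eq

theorem mem_cE {x : G} (hx : x ∈ S.cB) (ht : Commute x S.t) : x ∈ S.cE := by
  obtain ⟨p, rfl⟩ := S.exists_pre ht
  exact mem_map_of_mem _ (mem_centralizer_singleton_iff.2
    (S.commute_hom_iff.1 (mem_centralizer_singleton_iff.1 hx)).eq)

theorem commute_of_cE {x : G} (hx : x ∈ S.cE) : Commute x S.t := by
  obtain ⟨p, -, rfl⟩ := hx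
  exact S.commute_t p

theorem B_mem_cE : S.hom bM ∈ S.cE := mem_map_of_mem _ (mem_centralizer_singleton_iff.2 rfl)

theorem commute_B {x : G} (hx : x ∈ S.cB) : Commute x (S.hom bM) := mem_centralizer_singleton_iff.1 hx

theorem card_cE : Nat.card S.cE = 16 := by
  rw [cE, Nat.card_congr (Subgroup.equivMapOfInjective _ _ S.inj).toEquiv.symm, card_cent_b]

theorem isPGroup_cE : IsPGroup 2 S.cE := IsPGroup.of_card (n := 4) (by rw [S.card_cE]; norm_num)

theorem not_two_dvd_index : ¬ 2 ∣ (S.cE.subgroupOf S.cB).index := by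
  haveI : Fact (Nat.Prime 2) := ⟨Nat.prime_two⟩
  have hE : IsPGroup 2 (S.cE.subgroupOf S.cB) :=
    S.isPGroup_cE.of_equiv (Subgroup.subgroupOfEquivOfLe S.cE_le).symm
  obtain ⟨P, hP⟩ := hE.exists_le_sylow
  by_cases heq : S.cE.subgroupOf S.cB = (P : Subgroup S.cB)
  · rw [heq]; exact P.not_dvd_index
  exfalso
  haveI : Group.IsNilpotent (P : Subgroup S.cB) := P.2.isNilpotent
  have hlt : (S.cE.subgroupOf S.cB).subgroupOf P < ⊤ :=
    lt_top_iff_ne_top.2 fun e => heq (le_antisymm hP (Subgroup.subgroupOf_eq_top.1 e))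
  obtain ⟨n, hnN, hn⟩ := SetLike.exists_of_lt (Group.normalizerCondition_of_isNilpotent _ hlt)
  have hnorm : ∀ y ∈ S.cE, ((n : S.cB) : G) * y * ((n : S.cB) : G)⁻¹ ∈ S.cE := fun y hy => by
    have := (Subgroup.mem_normalizer_iff.1 hnN ⟨⟨y, S.cE_le hy⟩, hP (Subgroup.mem_subgroupOf.2 hy)⟩).1
      (Subgroup.mem_subgroupOf.2 (Subgroup.mem_subgroupOf.2 hy))
    exact Subgroup.mem_subgroupOf.1 (Subgroup.mem_subgroupOf.1 this)
  set m := ((n : S.cB) : G) with hm
  obtain ⟨p, hp, hpe⟩ := hnorm (S.hom aM) (mem_map_of_mem _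
    (mem_centralizer_singleton_iff.2 rep_facts.2.2.2.2.1.eq))
  obtain ⟨q, hq, hqe⟩ := hnorm (S.hom uM) (mem_map_of_mem _
    (mem_centralizer_singleton_iff.2 rep_facts.2.2.2.2.2.1.eq))
  have e : m * S.t * m⁻¹ = S.hom (p⁻¹ * q⁻¹ * (p * q)) := by
    rw [map_mul, map_mul, map_mul, map_inv, map_inv, hpe, hqe, ← S.map_z, ← commutator_au, map_mul, map_mul,
      map_mul, map_inv, map_inv]
    group
  rcases commutator_cases (mem_centralizer_singleton_iff.1 hp) (mem_centralizer_singleton_iff.1 hq) with h | h <;>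
    rw [h] at e
  · rw [map_one] at e
    exact ne_one S.orderOf_t (conj_eq_one_iff.1 e)
  · rw [S.map_z] at e
    exact hn (Subgroup.mem_subgroupOf.2 (Subgroup.mem_subgroupOf.2
      (S.mem_cE (n : S.cB).2 (mul_inv_eq_iff_eq_mul.1 e))))

theorem exists_conj_cE {x : G} (hx : x ∈ S.cB) (h2 : orderOf x = 2) :
    ∃ k ∈ S.cB, ∃ p : Hyp192, Commute p bM ∧ S.hom p = k * x * k⁻¹ := by
  haveI : Fact (Nat.Prime 2) := ⟨Nat.prime_two⟩
  let P : Sylow 2 S.cB :=
    (S.isPGroup_cE.of_equiv (Subgroup.subgroupOfEquivOfLe S.cE_le).symm).toSylow S.not_two_dvd_index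
  obtain ⟨k, hk⟩ := CfsgLib.Involution.Basic.exists_conj_mem P (x := (⟨x, hx⟩ : S.cB))
    (by rw [← Subgroup.orderOf_coe]; exact h2)
  obtain ⟨p, hp, hpe⟩ := Subgroup.mem_subgroupOf.1 (show k * ⟨x, hx⟩ * k⁻¹ ∈ S.cE.subgroupOf S.cB from hk)
  exact ⟨k, k.2, p, mem_centralizer_singleton_iff.1 hp, hpe⟩

theorem not_conj_t_of_b {y : Hyp192} (hy : IsConj bM y) : ¬ IsConj S.t (S.hom y) := fun h =>
  S.not_conj_b (h.trans (S.hom.map_isConj hy).symm)

theorem orderOf_of_isConj {x : G} (h : IsConj S.t x) : orderOf x = 2 := by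
  obtain ⟨g, rfl⟩ := isConj_iff.1 h
  rw [orderOf_conj, S.orderOf_t]

theorem ztype {x : G} (hx : x ∈ S.cB) (hz : IsConj S.t x) :
    ∃ k ∈ S.cB, ∃ p : Hyp192, (p = zM ∨ p = aM ∨ p = zaM) ∧ S.hom p = k * x * k⁻¹ := by
  obtain ⟨k, hk, p, hpb, hpe⟩ := S.exists_conj_cE hx (S.orderOf_of_isConj hz)
  have hp2 : orderOf p = 2 := by rw [← S.orderOf_hom, hpe, orderOf_conj, S.orderOf_of_isConj hz]
  refine ⟨k, hk, p, ?_, hpe⟩
  rcases sq_of_comm_b hpb (mul_self hp2) with rfl | h | h | h | h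
  · simp at hp2
  · exact Or.inl h
  · exact Or.inr (Or.inl h)
  · exact Or.inr (Or.inr h)
  · exact (S.not_conj_t_of_b h (hz.trans (isConj_iff.2 ⟨k, hpe.symm⟩))).elim

theorem partner {x : G} (hx : x ∈ S.cB) (hz : IsConj S.t x) :
    orderOf (x * S.hom bM) = 2 ∧ IsConj (S.hom bM) (x * S.hom bM) ∧ ¬ IsConj S.t (x * S.hom bM) := by
  obtain ⟨k, hk, p, hp, hpe⟩ := S.ztype hx hz
  have hpb : IsConj bM (p * bM) := by
    rcases hp with rfl | rfl | rfl
    exacts [rep_facts.2.2.2.2.2.2.2.1, rep_facts.2.2.2.2.2.2.2.2.1, rep_facts.2.2.2.2.2.2.2.2.2.1]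
  have h1 : IsConj (S.hom bM) (x * S.hom bM) := by
    refine (S.hom.map_isConj hpb).trans (isConj_iff.2 ⟨k⁻¹, ?_⟩)
    rw [map_mul, hpe, inv_inv]
    calc k⁻¹ * (k * x * k⁻¹ * S.hom bM) * k = x * (k⁻¹ * (S.hom bM * k)) := by group
      _ = x * (k⁻¹ * (k * S.hom bM)) := by rw [(S.commute_B hk).eq]
      _ = x * S.hom bM := by group
  refine ⟨?_, h1, fun h => S.not_conj_b (h.trans h1.symm)⟩
  obtain ⟨g, hg⟩ := isConj_iff.1 h1
  rw [← hg, orderOf_conj, S.orderOf_hom, orders.2.2.2.1]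

/-- The pairs with a power equal to `B` correspond to odd products of conjugates of `t`. -/
theorem card_pairs_b :
    Nat.card (Pairs S.t (S.hom bM) (S.hom bM)) = Nat.card (OddZ S.t (S.hom bM)) := by
  set B := S.hom bM
  have hB : orderOf B = 2 := by rw [S.orderOf_hom, orders.2.2.2.1]
  have hBB : B * B = 1 := mul_self hB
  have hfw : ∀ p : OddZ S.t B, ((p.1.1, B * p.1.2) : G × G) ∈ Pairs S.t B B := by
    rintro ⟨⟨x, x'⟩, ⟨hx, hxB⟩, ⟨hx', hxB'⟩, hodd⟩
    obtain ⟨-, h1, -⟩ := S.partner (mem_centralizer_singleton_iff.2 hxB'.eq) hx'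
    refine ⟨hx, by rw [← hxB'.eq]; exact h1, orderOf (x * x'), ?_⟩
    have e : x * (B * x') = B * (x * x') := by rw [← mul_assoc, hxB.eq, mul_assoc]
    rw [e, (Commute.mul_right hxB.symm hxB'.symm).mul_pow, pow_orderOf_eq_one, mul_one]
    obtain ⟨i, hi⟩ := hodd
    rw [hi, pow_succ, pow_mul, pow_two, hBB, one_pow, one_mul]
  refine (Nat.card_congr (Equiv.ofBijective (fun p => (⟨_, hfw p⟩ : Pairs S.t B B)) ⟨?_, ?_⟩)).symm
  · rintro ⟨⟨x, x'⟩, hp⟩ ⟨⟨y, y'⟩, hq⟩ e
    have e' := congrArg Subtype.val e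
    simp only [Prod.mk.injEq, mul_right_inj] at e'
    obtain ⟨rfl, rfl⟩ := e'
    rfl
  rintro ⟨⟨x, y⟩, hx, hy, m, hm⟩
  change IsConj S.t x at hx
  change IsConj B y at hy
  change (x * y) ^ m = B at hm
  have hxo : orderOf x = 2 := S.orderOf_of_isConj hx
  have hyo : orderOf y = 2 := by obtain ⟨g, rfl⟩ := isConj_iff.1 hy; rw [orderOf_conj, hB]
  have hev : Even (orderOf (x * y)) :=
    even_of_not_isConj hxo hyo fun e => S.not_conj_b ((hx.trans e).trans hy.symm)
  have hhalf := CfsgLib.Involution.OrderFormula.eq_half hB hm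
  have hxB : Commute x B := by rw [← hhalf]; exact (half_commute_left hxo hyo hev).symm
  have hyB : Commute y B := by rw [← hhalf]; exact (half_commute_right hxo hyo hev).symm
  have hxK : x ∈ S.cB := mem_centralizer_singleton_iff.2 hxB.eq
  obtain ⟨-, -, hxn⟩ := S.partner hxK hx
  set x' := B * y with hx'
  have hyx : y = B * x' := by rw [hx', ← mul_assoc, hBB, one_mul]
  have hx'B : Commute x' B := (Commute.refl B).mul_left hyB
  have hxy : x * y = B * (x * x') := by rw [hyx, ← mul_assoc, hxB.eq, mul_assoc]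
  have hm' : B ^ m * (x * x') ^ m = B := by
    rw [← (Commute.mul_right hxB.symm hx'B.symm).mul_pow, ← hxy, hm]
  have hx'2 : x' * x' = 1 := by
    rw [hx', hyB.mul_mul_mul_comm, hBB, mul_self hyo, one_mul]
  have hx'1 : x' ≠ 1 := fun e => by
    have hyB' : y = B := by rw [hyx, e, mul_one]
    subst hyB'
    rw [e, mul_one] at hm'
    rcases Nat.even_or_odd m with ⟨i, rfl⟩ | ⟨i, rfl⟩
    · rw [← two_mul, pow_mul, pow_two, hBB, one_pow, one_mul, pow_mul, pow_two, mul_self hxo, one_pow] at hm'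
      exact ne_one hB hm'.symm
    · rw [pow_succ, pow_mul, pow_two, hBB, one_pow, one_mul, pow_succ, pow_mul, pow_two, mul_self hxo, one_pow,
        one_mul, mul_eq_left] at hm'
      exact ne_one hxo hm'
  have hx'o : orderOf x' = 2 := orderOf_eq_two hx'2 hx'1
  have hodd : Odd (orderOf (x * x')) := by
    rcases Nat.even_or_odd m with ⟨j, rfl⟩ | hmo
    · exfalso
      rw [← two_mul, pow_mul, pow_two, hBB, one_pow, one_mul] at hm'
      refine hxn (hx.trans (isConj_iff.2 ⟨(x * x') ^ j, ?_⟩))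
      have hc := CfsgLib.Involution.Dihedral.conj_pow (conj_mul_left hxo hx'o) j
      calc (x * x') ^ j * x * ((x * x') ^ j)⁻¹ = (x * x') ^ j * (x * ((x * x') ^ j)⁻¹ * x⁻¹) * x := by group
        _ = (x * x') ^ (2 * j) * x := by
          rw [show x * ((x * x') ^ j)⁻¹ * x⁻¹ = (x * x') ^ j by
            rw [show x * ((x * x') ^ j)⁻¹ * x⁻¹ = (x * (x * x') ^ j * x⁻¹)⁻¹ by group, hc, inv_inv],
            ← pow_add, two_mul]
        _ = x * B := by rw [hm', hxB.eq]
    · obtain ⟨i, hi⟩ := hmo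
      rw [hi, pow_succ, pow_mul, pow_two, hBB, one_pow, one_mul, mul_eq_left] at hm'
      exact Odd.of_dvd_nat ⟨i, rfl⟩ (orderOf_dvd_of_pow_eq_one hm')
  exact ⟨⟨(x, x'), ⟨hx, hxB⟩, ⟨hx.trans (isConj_of_odd hxo hx'o hodd), hx'B⟩, hodd⟩,
    Subtype.ext (Prod.ext rfl hyx.symm)⟩

end Emb

end CfsgLib.KGroups.M12TwoCentral
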