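import Cfsg.Agent.Lib.KGroups.M12TwoCentral.Orders
import Cfsg.Agent.Lib.SmallGroups.SimpleTools

/-!
# The order of a simple group with this centraliser of an involution
-/

set_option autoImplicit false
set_option linter.unusedSectionVars false
set_option linter.style.haveILetI false
set_option maxRecDepth 40000

namespace CfsgLib.KGroups.M12TwoCentral

open Hyp192 Subgroup CfsgLib.Involution.Dihedral
open CfsgLib.Involution.OrderFormula (Pairs)

namespace Hyp192

attribute [local irreducible] mulN invN commC inMask conjC hitsC powC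

/-- A count of pairs of codes. -/
theorem card_pairs_code (f : ℕ → Bool) (h : ℕ → ℕ → Bool) :
    Nat.card {p : Hyp192 × Hyp192 // f p.1.code.val = true ∧ h p.1.code.val p.2.code.val = true} =
      (((List.range 192).filter f).map fun x => ((List.range 192).filter (h x)).length).sum := by
  classical
  have e : {p : Hyp192 × Hyp192 // f p.1.code.val = true ∧ h p.1.code.val p.2.code.val = true} ≃
      Σ x : {x : Hyp192 // f x.code.val = true}, {y : Hyp192 // h x.1.code.val y.code.val = true} :=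
    { toFun := fun p => ⟨⟨p.1.1, p.2.1⟩, ⟨p.1.2, p.2.2⟩⟩
      invFun := fun q => ⟨(q.1.1, q.2.1), q.1.2, q.2.2⟩
      left_inv := fun _ => rfl
      right_inv := fun _ => rfl }
  rw [Nat.card_congr e, Nat.card_sigma, ← List.sum_toFinset _ (List.nodup_range.filter _)]
  refine Finset.sum_bij (fun x _ => x.1.code.val) (fun x _ => by simp [x.1.code.2, x.2])
    (fun x _ y _ he => Subtype.ext (eq_iff.2 he)) (fun k hk => ?_) fun x _ => card_filter_code _
  simp only [List.mem_toFinset, List.mem_filter, List.mem_range] at hk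
  exact ⟨⟨⟨⟨k, hk.1⟩⟩, hk.2⟩, Finset.mem_univ _, rfl⟩

theorem code_pow (p : Hyp192) (m : ℕ) : (p ^ m).code.val = powC p.code.val m := by
  induction m with
  | zero => rw [pow_zero, code_one, powC]
  | succ m ih => rw [pow_succ, code_mul, ih, powC]

theorem hits_iff (p : Hyp192) : (∃ m : ℕ, p ^ m = zM) ↔ hitsC p.code.val = true := by
  constructor
  · rintro ⟨m, hm⟩
    have h := test pow_check p
    simp only [Bool.and_eq_true] at h
    have h24 : p ^ 24 = 1 := eq_iff.2 (by rw [code_pow, code_one]; exact Nat.eq_of_beq_eq_true h.1)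
    rw [pow_eq_pow_mod m h24] at hm
    have h2 := List.all_eq_true.1 h.2 (m % 24) (List.mem_range.2 (Nat.mod_lt _ (by norm_num)))
    rw [← code_pow, hm, code_zM] at h2
    simpa using h2
  · intro h
    unfold hitsC at h
    simp only [Bool.or_eq_true, Nat.beq_eq] at h
    rcases h with ((h | h) | h) | h
    · exact ⟨1, eq_iff.2 (by rw [pow_one, h, code_zM])⟩
    · exact ⟨2, eq_iff.2 (by rw [pow_two, code_mul, h, code_zM])⟩
    · exact ⟨3, eq_iff.2 (by rw [pow_succ, pow_two, code_mul, code_mul, h, code_zM])⟩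
    · exact ⟨4, eq_iff.2 (by rw [pow_succ, pow_succ, pow_two, code_mul, code_mul, code_mul, h, code_zM])⟩

end Hyp192

namespace Emb

variable {G : Type*} [Group G] [Finite G] [IsSimpleGroup G] (S : Emb G)

theorem card_pairs_t {f h : ℕ → Bool} (hf : ∀ x : Hyp192, IsConj S.t (S.hom x) ↔ f x.code.val = true)
    (hh : ∀ y : Hyp192, IsConj (S.hom bM) (S.hom y) ↔ h y.code.val = true) :
    Nat.card (Pairs S.t (S.hom bM) S.t) =
      (((List.range 192).filter f).map fun x =>
        ((List.range 192).filter fun y => h y && hitsC (mulN x y)).length).sum := by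
  rw [← Hyp192.card_pairs_code]
  have hfw : ∀ p : {p : Hyp192 × Hyp192 // f p.1.code.val = true ∧
      (h p.2.code.val && hitsC (mulN p.1.code.val p.2.code.val)) = true},
      ((S.hom p.1.1, S.hom p.1.2) : G × G) ∈ Pairs S.t (S.hom bM) S.t := by
    rintro ⟨⟨x, y⟩, hx, hy⟩
    simp only [Bool.and_eq_true] at hy
    obtain ⟨m, hm⟩ := (hits_iff (x * y)).2 (by rw [code_mul]; exact hy.2)
    exact ⟨(hf x).2 hx, (hh y).2 hy.1, m, by
      show (S.hom x * S.hom y) ^ m = S.t
      rw [← map_mul, ← map_pow, hm, S.map_z]⟩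
  refine (Nat.card_congr (Equiv.ofBijective (fun p => (⟨_, hfw p⟩ : Pairs S.t (S.hom bM) S.t)) ⟨?_, ?_⟩)).symm
  · rintro ⟨⟨x, y⟩, hp⟩ ⟨⟨x', y'⟩, hq⟩ e
    have e' := congrArg Subtype.val e
    simp only [Prod.mk.injEq] at e'
    exact Subtype.ext (Prod.ext (S.inj e'.1) (S.inj e'.2))
  rintro ⟨⟨x, y⟩, hx, hy, m, hm⟩
  change IsConj S.t x at hx
  change IsConj (S.hom bM) y at hy
  change (x * y) ^ m = S.t at hm
  have hxo := S.orderOf_of_isConj hx
  have hyo : orderOf y = 2 := by
    obtain ⟨g, rfl⟩ := isConj_iff.1 hy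
    rw [orderOf_conj, S.orderOf_hom, orders.2.2.2.1]
  have hev : Even (orderOf (x * y)) :=
    even_of_not_isConj hxo hyo fun e => S.not_conj_b ((hx.trans e).trans hy.symm)
  have hhalf := CfsgLib.Involution.OrderFormula.eq_half S.orderOf_t hm
  obtain ⟨x', rfl⟩ := S.exists_pre (show Commute x S.t from hhalf ▸ (half_commute_left hxo hyo hev).symm)
  obtain ⟨y', rfl⟩ := S.exists_pre (show Commute y S.t from hhalf ▸ (half_commute_right hxo hyo hev).symm)
  refine ⟨⟨(x', y'), (hf x').1 hx, ?_⟩, rfl⟩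
  rw [Bool.and_eq_true]
  refine ⟨(hh y').1 hy, ?_⟩
  rw [← code_mul]
  exact (hits_iff _).1 ⟨m, S.inj (by rw [map_pow, map_mul, hm, S.map_z])⟩

theorem orderOf_of_isConj' {x : Hyp192} {u : Hyp192} (hu : orderOf u = 2) (h : IsConj (S.hom u) (S.hom x)) :
    orderOf x = 2 := by
  obtain ⟨g, hg⟩ := isConj_iff.1 h
  rw [← S.orderOf_hom, ← hg, orderOf_conj, S.orderOf_hom, hu]

theorem class_t_one (hG : ¬ IsMulCommutative G) (hc : IsConj S.t (S.hom cM)) (x : Hyp192) :
    IsConj S.t (S.hom x) ↔ (Nat.beq x.code.val 7 || inMask maskA x.code.val || inMask maskC x.code.val) = true := by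
  simp only [Bool.or_eq_true, Nat.beq_eq, ← isConj_a, ← isConj_c, ← code_zM, ← Hyp192.eq_iff]
  constructor
  · intro h
    have ho : orderOf x = 2 := S.orderOf_of_isConj' orders.1 (by rwa [S.map_z])
    rcases class_of_card ho with ⟨h', -⟩ | ⟨h', -⟩ | ⟨h', -⟩ | ⟨h', -⟩
    · exact Or.inl (Or.inl h')
    · exact Or.inl (Or.inr h')
    · exact (S.not_conj_t_of_b h' h).elim
    · exact Or.inr h'
  · rintro ((rfl | h) | h)
    · rw [S.map_z]
    · exact (S.conj_a hG).trans (S.hom.map_isConj h)
    · exact hc.trans (S.hom.map_isConj h)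

theorem class_b_one (hG : ¬ IsMulCommutative G) (hc : IsConj S.t (S.hom cM)) (x : Hyp192) :
    IsConj (S.hom bM) (S.hom x) ↔ inMask maskB x.code.val = true := by
  rw [← isConj_b]
  refine ⟨fun h => ?_, fun h => S.hom.map_isConj h⟩
  rcases class_of_card (S.orderOf_of_isConj' orders.2.2.2.1 h) with ⟨rfl, -⟩ | ⟨h', -⟩ | ⟨h', -⟩ | ⟨h', -⟩
  · exact (S.not_conj_b (S.map_z ▸ h.symm)).elim
  · exact (S.not_conj_b (((S.conj_a hG).trans (S.hom.map_isConj h')).trans h.symm)).elim
  · exact h'
  · exact (S.not_conj_b ((hc.trans (S.hom.map_isConj h')).trans h.symm)).elim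

theorem class_t_two (hG : ¬ IsMulCommutative G) (hc : IsConj (S.hom bM) (S.hom cM)) (x : Hyp192) :
    IsConj S.t (S.hom x) ↔ (Nat.beq x.code.val 7 || inMask maskA x.code.val) = true := by
  simp only [Bool.or_eq_true, Nat.beq_eq, ← isConj_a, ← code_zM, ← Hyp192.eq_iff]
  constructor
  · intro h
    have ho : orderOf x = 2 := S.orderOf_of_isConj' orders.1 (by rwa [S.map_z])
    rcases class_of_card ho with ⟨h', -⟩ | ⟨h', -⟩ | ⟨h', -⟩ | ⟨h', -⟩
    · exact Or.inl h'
    · exact Or.inr h'
    · exact (S.not_conj_t_of_b h' h).elim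
    · exact (S.not_conj_b (h.trans (hc.trans (S.hom.map_isConj h')).symm)).elim
  · rintro (rfl | h)
    · rw [S.map_z]
    · exact (S.conj_a hG).trans (S.hom.map_isConj h)

theorem class_b_two (hG : ¬ IsMulCommutative G) (hc : IsConj (S.hom bM) (S.hom cM)) (x : Hyp192) :
    IsConj (S.hom bM) (S.hom x) ↔ (inMask maskB x.code.val || inMask maskC x.code.val) = true := by
  simp only [Bool.or_eq_true, ← isConj_b, ← isConj_c]
  constructor
  · intro h
    rcases class_of_card (S.orderOf_of_isConj' orders.2.2.2.1 h) with ⟨rfl, -⟩ | ⟨h', -⟩ | ⟨h', -⟩ | ⟨h', -⟩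
    · exact (S.not_conj_b (S.map_z ▸ h.symm)).elim
    · exact (S.not_conj_b (((S.conj_a hG).trans (S.hom.map_isConj h')).trans h.symm)).elim
    · exact Or.inl h'
    · exact Or.inr h'
  · rintro (h | h)
    · exact S.hom.map_isConj h
    · exact hc.trans (S.hom.map_isConj h)

/-- The number of conjugates of `t`. -/
theorem card_class : Nat.card G = Nat.card {g : G // IsConj S.t g} * 192 := by
  classical
  haveI := Fintype.ofFinite G
  rw [CfsgLib.Involution.Count.card_eq_class_mul S.t, S.card_cent_t, ← Fintype.card_subtype,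
    Nat.card_eq_fintype_card]

/-- The pairs of non-commuting conjugates with half power `t` give a lower bound for the class. -/
theorem class_large (hG : ¬ IsMulCommutative G) (hc : IsConj S.t (S.hom cM)) :
    288 ≤ Nat.card {g : G // IsConj S.t g} := by
  classical
  let K := {g : G // IsConj S.t g}
  let T := {p : Hyp192 × Hyp192 // (inMask maskA p.1.code.val || inMask maskC p.1.code.val) = true ∧
    ((inMask maskA p.2.code.val || inMask maskC p.2.code.val) && !commC p.1.code.val p.2.code.val &&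
      hitsC (mulN p.1.code.val p.2.code.val)) = true}
  have hT : Nat.card T = 288 := (Hyp192.card_pairs_code (fun x => inMask maskA x || inMask maskC x)
    (fun x y => (inMask maskA y || inMask maskC y) && !commC x y && hitsC (mulN x y))).trans noncomm_count
  have hcl : ∀ x : Hyp192, (inMask maskA x.code.val || inMask maskC x.code.val) = true →
      IsConj S.t (S.hom x) := fun x h => (S.class_t_one hG hc x).2 (by rw [Bool.or_assoc, h, Bool.or_true])
  choose g hg using fun x : K => isConj_iff.1 x.2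
  have hmem : ∀ (x : K) (p : Hyp192), (inMask maskA p.code.val || inMask maskC p.code.val) = true →
      IsConj S.t (g x * S.hom p * (g x)⁻¹) := fun x p h => (hcl p h).trans (isConj_iff.2 ⟨g x, rfl⟩)
  let F : (Σ _ : K, T) → K × K := fun q =>
    (⟨g q.1 * S.hom q.2.1.1 * (g q.1)⁻¹, hmem _ _ q.2.2.1⟩,
      ⟨g q.1 * S.hom q.2.1.2 * (g q.1)⁻¹, hmem _ _ (by
        have := q.2.2.2; simp only [Bool.and_eq_true] at this; exact this.1.1)⟩)
  have hF : Function.Injective F := by
    have key : ∀ (x : K) (p : T),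
        ((g x * S.hom p.1.1 * (g x)⁻¹) * (g x * S.hom p.1.2 * (g x)⁻¹)) ^
          (orderOf ((g x * S.hom p.1.1 * (g x)⁻¹) * (g x * S.hom p.1.2 * (g x)⁻¹)) / 2) = x.1 := by
      rintro x ⟨⟨p, q⟩, -, h⟩
      simp only [Bool.and_eq_true] at h
      obtain ⟨m, hm⟩ := (hits_iff (p * q)).2 (by rw [code_mul]; exact h.2)
      refine CfsgLib.Involution.OrderFormula.eq_half (S.orderOf_of_isConj x.2) (m := m) ?_
      rw [conj_mul, _root_.conj_pow, ← map_mul, ← map_pow, hm, S.map_z, hg x]
    rintro ⟨x, p⟩ ⟨y, q⟩ e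
    simp only [F, Prod.mk.injEq] at e
    obtain ⟨e1, e2⟩ := e
    replace e1 := congrArg Subtype.val e1
    replace e2 := congrArg Subtype.val e2
    dsimp only at e1 e2
    have hxy : x = y := Subtype.ext (by rw [← key x p, ← key y q, e1, e2])
    subst hxy
    exact Sigma.ext rfl (heq_of_eq (Subtype.ext (Prod.ext
      (S.inj (mul_left_cancel (mul_right_cancel e1))) (S.inj (mul_left_cancel (mul_right_cancel e2))))))
  have h := Nat.card_le_card_of_injective F hF
  haveI : Fintype K := Fintype.ofFinite K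
  rw [Nat.card_sigma, Finset.sum_const, smul_eq_mul, Finset.card_univ, ← Nat.card_eq_fintype_card, hT,
    Nat.card_prod] at h
  exact Nat.le_of_mul_le_mul_left h (Nat.card_pos_iff.2 ⟨⟨⟨S.t, IsConj.refl _⟩⟩, inferInstance⟩)

/-- The conjugates of `t` split into commuting sets of seven. -/
theorem seven_dvd_class (hG : ¬ IsMulCommutative G) (hc : IsConj (S.hom bM) (S.hom cM)) :
    7 ∣ Nat.card {g : G // IsConj S.t g} := by
  classical
  have h0 : ∀ u v : G, IsConj S.t u → IsConj S.t v → Commute u S.t → Commute v S.t → Commute u v := by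
    intro u v hu hv hut hvt
    obtain ⟨x, rfl⟩ := S.exists_pre hut
    obtain ⟨y, rfl⟩ := S.exists_pre hvt
    have hx := (S.class_t_two hG hc x).1 hu
    have hy := (S.class_t_two hG hc y).1 hv
    simp only [Bool.or_eq_true, Nat.beq_eq, ← isConj_a, ← code_zM, ← Hyp192.eq_iff] at hx hy
    exact S.commute_hom_iff.2 (zA_commute hx hy)
  have htrans : ∀ u v w : {g : G // IsConj S.t g}, Commute u.1 v.1 → Commute v.1 w.1 → Commute u.1 w.1 := by
    intro u v w huv hvw
    obtain ⟨g, hg⟩ := isConj_iff.1 v.2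
    have conv : ∀ a : G, g * (g⁻¹ * a * g) * g⁻¹ = a := fun a => by group
    have hcv : ∀ a : G, Commute a v.1 → Commute (g⁻¹ * a * g) S.t := fun a ha => by
      rw [← card_inf_conj.commute_conj_iff g, conv, hg]; exact ha
    have hcj : ∀ a : G, IsConj S.t a → IsConj S.t (g⁻¹ * a * g) := fun a ha =>
      ha.trans (isConj_iff.2 ⟨g⁻¹, by rw [inv_inv]⟩)
    have := h0 _ _ (hcj _ u.2) (hcj _ w.2) (hcv _ huv) (hcv _ hvw.symm)
    rwa [← card_inf_conj.commute_conj_iff g, conv, conv] at this
  let s : Setoid {g : G // IsConj S.t g} :=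
    ⟨fun u v => Commute u.1 v.1, ⟨fun u => Commute.refl _, Commute.symm, htrans _ _ _⟩⟩
  have hbase : Nat.card {u : G // IsConj S.t u ∧ Commute u S.t} = 7 := by
    rw [← zA_count, ← Hyp192.card_filter_code]
    refine (Nat.card_congr (Equiv.ofBijective (fun x => (⟨S.hom x.1, (S.class_t_two hG hc x.1).2 x.2,
      S.commute_t x.1⟩ : {u : G // IsConj S.t u ∧ Commute u S.t})) ⟨?_, ?_⟩)).symm
    · intro x y e
      exact Subtype.ext (S.inj (congrArg Subtype.val e))
    · rintro ⟨u, hu, hut⟩
      obtain ⟨x, rfl⟩ := S.exists_pre hut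
      exact ⟨⟨x, (S.class_t_two hG hc x).1 hu⟩, rfl⟩
  have hfib : ∀ q : Quotient s, Nat.card {u : {g : G // IsConj S.t g} // Quotient.mk s u = q} = 7 := by
    intro q
    induction q using Quotient.inductionOn with
    | h v =>
      obtain ⟨g, hg⟩ := isConj_iff.1 v.2
      rw [← hbase]
      refine (Nat.card_congr (Equiv.ofBijective (fun u => ?_) ⟨?_, ?_⟩)).symm
      · refine ⟨⟨g * u.1 * g⁻¹, u.2.1.trans (isConj_iff.2 ⟨g, rfl⟩)⟩, Quotient.sound ?_⟩
        show Commute (g * u.1 * g⁻¹) v.1
        rw [← hg, card_inf_conj.commute_conj_iff]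
        exact u.2.2
      · intro x y e
        exact Subtype.ext (mul_left_cancel (mul_right_cancel (congrArg (fun z => (z.1.1 : G)) e)))
      · rintro ⟨⟨u, hu⟩, hq⟩
        have hcomm : Commute u v.1 := Quotient.exact hq
        refine ⟨⟨g⁻¹ * u * g, hu.trans (isConj_iff.2 ⟨g⁻¹, by rw [inv_inv]⟩), ?_⟩, ?_⟩
        · rw [← card_inf_conj.commute_conj_iff g, hg, show g * (g⁻¹ * u * g) * g⁻¹ = u by group]
          exact hcomm
        · exact Subtype.ext (Subtype.ext (show g * (g⁻¹ * u * g) * g⁻¹ = u by group))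
  haveI := Fintype.ofFinite (Quotient s)
  refine ⟨Nat.card (Quotient s), ?_⟩
  rw [← Nat.card_congr (Equiv.sigmaFiberEquiv (Quotient.mk s)), Nat.card_sigma,
    Finset.sum_congr rfl fun q _ => hfib q, Finset.sum_const, smul_eq_mul, Finset.card_univ,
    ← Nat.card_eq_fintype_card, mul_comm]

include S in
theorem card_eq (hG : ¬ IsMulCommutative G) : Nat.card G = 95040 := by
  have hcl : ∀ x : G, orderOf x = 2 → IsConj S.t x ∨ IsConj (S.hom bM) x := fun x hx => S.two_classes hG hx
  have hf := CfsgLib.Involution.OrderFormula.card_eq S.t (S.hom bM) S.orderOf_t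
    ((S.orderOf_hom bM).trans orders.2.2.2.1) S.not_conj_b hcl
  rw [S.card_pairs_b, S.card_cent_t, show Subgroup.centralizer ({S.hom bM} : Set G) = S.cB from rfl] at hf
  have hk := S.card_class
  rcases S.c_cases hG with hc | hc
  · have hp : Nat.card (Pairs S.t (S.hom bM) S.t) = 240 :=
      (S.card_pairs_t (f := fun x => Nat.beq x 7 || inMask maskA x || inMask maskC x)
        (h := fun y => inMask maskB y) (S.class_t_one hG hc) (S.class_b_one hG hc)).trans pairs_count_one
    rw [hp] at hf
    have h288 := S.class_large hG hc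
    rcases card_data hG S with ⟨h1, h2⟩ | ⟨h1, h2⟩ | ⟨h1, h2⟩ <;> rw [h1, h2] at hf <;> omega
  · exfalso
    have hp : Nat.card (Pairs S.t (S.hom bM) S.t) = 48 :=
      (S.card_pairs_t (f := fun x => Nat.beq x 7 || inMask maskA x)
        (h := fun y => inMask maskB y || inMask maskC y) (S.class_t_two hG hc) (S.class_b_two hG hc)).trans
        pairs_count_two
    rw [hp] at hf
    have h7 := S.seven_dvd_class hG hc
    rcases card_data hG S with ⟨h1, h2⟩ | ⟨h1, h2⟩ | ⟨h1, h2⟩ <;> rw [h1, h2] at hf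
    · have hne : Subgroup.centralizer ({S.t} : Set G) ≠ ⊤ := fun e => by
        have := S.card_cent_t
        rw [e, Subgroup.card_top] at this
        omega
      have hd := CfsgLib.SmallGroups.SimpleTools.two_mul_card_dvd_factorial hG _ hne
      have hidx := (Subgroup.centralizer ({S.t} : Set G)).card_mul_index
      rw [S.card_cent_t, hf] at hidx
      rw [show (Subgroup.centralizer ({S.t} : Set G)).index = 7 by omega, hf] at hd
      norm_num [Nat.factorial] at hd
    all_goals omega

end Emb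

end CfsgLib.KGroups.M12TwoCentral
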