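import Cfsg.Agent.Lib.KGroups.M12TwoCentral.Facts
import Cfsg.Agent.Lib.Char.Perm

/-!
# The signed permutations of determinant one: classes of involutions and the distinguished subgroups
-/

set_option autoImplicit false
set_option maxRecDepth 40000

namespace CfsgLib.KGroups.M12TwoCentral.Hyp192

/-- The central involution. -/
def zM : Hyp192 := ⟨7⟩
/-- An involution with centraliser of order 32. -/
def aM : Hyp192 := ⟨5⟩
/-- The product of `zM` and `aM`. -/
def zaM : Hyp192 := ⟨2⟩
/-- An involution with centraliser of order 16. -/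
def bM : Hyp192 := ⟨128⟩
/-- An involution with centraliser of order 8. -/
def cM : Hyp192 := ⟨112⟩
/-- A conjugate of `bM` centralising it. -/
def uM : Hyp192 := ⟨56⟩

theorem code_mul (x y : Hyp192) : (x * y).code.val = mulN x.code.val y.code.val := rfl
theorem code_inv (x : Hyp192) : x⁻¹.code.val = invN x.code.val := rfl
theorem code_one : (1 : Hyp192).code.val = 0 := rfl
theorem code_conj (h x : Hyp192) : (h * x * h⁻¹).code.val = conjC h.code.val x.code.val := rfl

theorem code_zM : zM.code.val = 7 := rfl
theorem code_aM : aM.code.val = 5 := rfl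
theorem code_zaM : zaM.code.val = 2 := rfl
theorem code_bM : bM.code.val = 128 := rfl
theorem code_cM : cM.code.val = 112 := rfl
theorem code_uM : uM.code.val = 56 := rfl

attribute [local irreducible] mulN invN commC inMask conjC

theorem eq_iff {x y : Hyp192} : x = y ↔ x.code.val = y.code.val :=
  ⟨fun h => h ▸ rfl, fun h => equivFin.injective (Fin.ext h)⟩

theorem test {f : ℕ → Bool} (h : All192 f) (x : Hyp192) : f x.code.val = true :=
  List.all_eq_true.1 h _ (List.mem_range.2 x.code.2)

theorem test_range {f : ℕ → Bool} (h : (List.range 192).all f = true) (x : Hyp192) : f x.code.val = true :=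
  test h x

theorem exists_of_any {f : ℕ → Bool} (h : (List.range 192).any f = true) : ∃ x : Hyp192, f x.code.val = true := by
  obtain ⟨k, hk, hf⟩ := List.any_eq_true.1 h
  exact ⟨⟨⟨k, List.mem_range.1 hk⟩⟩, hf⟩

theorem commute_iff {x y : Hyp192} : Commute x y ↔ commC x.code.val y.code.val = true := by
  rw [Commute, SemiconjBy, eq_iff, code_mul, code_mul, commC, Nat.beq_eq]

theorem isConj_a {x : Hyp192} : IsConj aM x ↔ inMask maskA x.code.val = true := by
  constructor
  · intro h
    obtain ⟨g, rfl⟩ := isConj_iff.1 h
    have := test class_closed g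
    simp only [Bool.and_eq_true] at this
    rw [code_conj, code_aM]
    exact this.1.1
  · intro h
    have := test class_witness x
    simp only [Bool.and_eq_true] at this
    have h1 := this.1.1
    rw [h] at h1
    simp only [Bool.not_true, Bool.false_or] at h1
    obtain ⟨g, hg⟩ := exists_of_any h1
    exact isConj_iff.2 ⟨g, eq_iff.2 (by rw [code_conj, code_aM]; exact Nat.eq_of_beq_eq_true hg)⟩

theorem isConj_b {x : Hyp192} : IsConj bM x ↔ inMask maskB x.code.val = true := by
  constructor
  · intro h
    obtain ⟨g, rfl⟩ := isConj_iff.1 h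
    have := test class_closed g
    simp only [Bool.and_eq_true] at this
    rw [code_conj, code_bM]
    exact this.1.2
  · intro h
    have := test class_witness x
    simp only [Bool.and_eq_true] at this
    have h1 := this.1.2
    rw [h] at h1
    simp only [Bool.not_true, Bool.false_or] at h1
    obtain ⟨g, hg⟩ := exists_of_any h1
    exact isConj_iff.2 ⟨g, eq_iff.2 (by rw [code_conj, code_bM]; exact Nat.eq_of_beq_eq_true hg)⟩

theorem isConj_c {x : Hyp192} : IsConj cM x ↔ inMask maskC x.code.val = true := by
  constructor
  · intro h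
    obtain ⟨g, rfl⟩ := isConj_iff.1 h
    have := test class_closed g
    simp only [Bool.and_eq_true] at this
    rw [code_conj, code_cM]
    exact this.2
  · intro h
    have := test class_witness x
    simp only [Bool.and_eq_true] at this
    have h1 := this.2
    rw [h] at h1
    simp only [Bool.not_true, Bool.false_or] at h1
    obtain ⟨g, hg⟩ := exists_of_any h1
    exact isConj_iff.2 ⟨g, eq_iff.2 (by rw [code_conj, code_cM]; exact Nat.eq_of_beq_eq_true hg)⟩

theorem sq_cases {x : Hyp192} (hx : x * x = 1) :
    x = 1 ∨ x = zM ∨ IsConj aM x ∨ IsConj bM x ∨ IsConj cM x := by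
  have h := test invol_check x
  rw [← code_mul, hx] at h
  simp only [Bool.or_eq_true, Bool.not_eq_true', Nat.beq_eq] at h
  rw [isConj_a, isConj_b, isConj_c, eq_iff, eq_iff]
  rcases h with ((((h | h) | h) | h) | h) | h
  · exact absurd h (by rw [code_one]; decide)
  · exact Or.inl h
  · exact Or.inr (Or.inl h)
  · exact Or.inr (Or.inr (Or.inl h))
  · exact Or.inr (Or.inr (Or.inr (Or.inl h)))
  · exact Or.inr (Or.inr (Or.inr (Or.inr h)))

theorem zM_central (x : Hyp192) : Commute x zM := commute_iff.2 (test central_check x)

theorem card_filter_code (f : ℕ → Bool) :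
    Nat.card {x : Hyp192 // f x.code.val = true} = ((List.range 192).filter f).length := by
  classical
  have hn : ((List.range 192).filter f).Nodup := List.nodup_range.filter _
  rw [← List.toFinset_card_of_nodup hn, ← Nat.card_eq_finsetCard]
  refine Nat.card_congr
    { toFun := fun x => ⟨x.1.code.val, by simp [x.1.code.2, x.2]⟩
      invFun := fun k => ⟨⟨⟨k.1, by have := k.2; simp at this; exact this.1⟩⟩, by
        have := k.2; simp at this; exact this.2⟩
      left_inv := fun x => rfl
      right_inv := fun k => rfl }

theorem card_cent {x : Hyp192} :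
    Nat.card (Subgroup.centralizer ({x} : Set Hyp192)) =
      ((List.range 192).filter fun h => commC h x.code.val).length := by
  rw [← card_filter_code]
  exact Nat.card_congr (Equiv.subtypeEquivRight fun y =>
    Subgroup.mem_centralizer_singleton_iff.trans (commute_iff (x := y) (y := x)))

theorem card_cent_a : Nat.card (Subgroup.centralizer ({aM} : Set Hyp192)) = 32 :=
  card_cent.trans cent_counts.1

theorem card_cent_b : Nat.card (Subgroup.centralizer ({bM} : Set Hyp192)) = 16 :=
  card_cent.trans cent_counts.2.1

theorem card_cent_c : Nat.card (Subgroup.centralizer ({cM} : Set Hyp192)) = 8 :=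
  card_cent.trans cent_counts.2.2

theorem card_cent_conj {x y : Hyp192} (h : IsConj x y) :
    Nat.card (Subgroup.centralizer ({y} : Set Hyp192)) = Nat.card (Subgroup.centralizer ({x} : Set Hyp192)) :=
  (CfsgLib.Char.card_centralizer_eq_of_isConj h).symm

theorem card_cent_z : Nat.card (Subgroup.centralizer ({zM} : Set Hyp192)) = 192 := by
  rw [show Subgroup.centralizer ({zM} : Set Hyp192) = ⊤ from
      eq_top_iff.2 fun x _ => Subgroup.mem_centralizer_singleton_iff.2 (zM_central x).eq, Subgroup.card_top,
    card_eq]

/-- The class of an involution is determined by the order of its centraliser. -/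
theorem class_of_card {x : Hyp192} (hx : orderOf x = 2) :
    (x = zM ∧ Nat.card (Subgroup.centralizer ({x} : Set Hyp192)) = 192) ∨
    (IsConj aM x ∧ Nat.card (Subgroup.centralizer ({x} : Set Hyp192)) = 32) ∨
    (IsConj bM x ∧ Nat.card (Subgroup.centralizer ({x} : Set Hyp192)) = 16) ∨
    (IsConj cM x ∧ Nat.card (Subgroup.centralizer ({x} : Set Hyp192)) = 8) := by
  rcases sq_cases (by rw [← pow_two, ← hx, pow_orderOf_eq_one]) with rfl | rfl | h | h | h
  · simp at hx
  · exact Or.inl ⟨rfl, card_cent_z⟩
  · exact Or.inr (Or.inl ⟨h, (card_cent_conj h).trans card_cent_a⟩)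
  · exact Or.inr (Or.inr (Or.inl ⟨h, (card_cent_conj h).trans card_cent_b⟩))
  · exact Or.inr (Or.inr (Or.inr ⟨h, (card_cent_conj h).trans card_cent_c⟩))

theorem eq_zM_of_central {x : Hyp192} (hx : orderOf x = 2) (hc : ∀ y, Commute y x) : x = zM := by
  have h : Nat.card (Subgroup.centralizer ({x} : Set Hyp192)) = 192 := by
    rw [show Subgroup.centralizer ({x} : Set Hyp192) = ⊤ from
      eq_top_iff.2 fun y _ => Subgroup.mem_centralizer_singleton_iff.2 (hc y).eq, Subgroup.card_top, card_eq]
  rcases class_of_card hx with h' | h' | h' | h'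
  · exact h'.1
  all_goals (rw [h] at h'; omega)

/-- The subgroup given by a mask closed under multiplication and inversion. -/
def maskSub (m : ℕ) (h1 : inMask m 0 = true)
    (h : All192 fun x => !inMask m x ||
      (inMask m (invN x) && (List.range 192).all fun y => !inMask m y || inMask m (mulN x y))) :
    Subgroup Hyp192 where
  carrier := {x | inMask m x.code.val = true}
  one_mem' := h1
  mul_mem' := fun {x y} hx hy => by
    have e := test h x
    simp only [Set.mem_setOf_eq] at hx hy
    rw [hx] at e
    simp only [Bool.not_true, Bool.false_or, Bool.and_eq_true] at e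
    have e' := test_range e.2 y
    rw [hy] at e'
    simp only [Bool.not_true, Bool.false_or] at e'
    show inMask m (x * y).code.val = true
    rw [code_mul]
    exact e'
  inv_mem' := fun {x} hx => by
    have e := test h x
    simp only [Set.mem_setOf_eq] at hx
    rw [hx] at e
    simp only [Bool.not_true, Bool.false_or, Bool.and_eq_true] at e
    exact e.1

theorem card_maskSub (m : ℕ) (h1 : inMask m 0 = true)
    (h : All192 fun x => !inMask m x ||
      (inMask m (invN x) && (List.range 192).all fun y => !inMask m y || inMask m (mulN x y))) :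
    Nat.card (maskSub m h1 h) = ((List.range 192).filter fun x => inMask m x).length :=
  card_filter_code fun x => inMask m x

/-- A Sylow subgroup. -/
def sylP : Subgroup Hyp192 := maskSub maskP (by decide +kernel) sylow_closed

/-- A subgroup of index two of the Sylow subgroup, without conjugates of `cM`. -/
def subQ : Subgroup Hyp192 := maskSub maskQ (by decide +kernel) (by decide +kernel)

/-- A complement of `bM` in its centraliser. -/
def subD : Subgroup Hyp192 := maskSub 11889503016258109605 (by decide +kernel) (by decide +kernel)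

/-- The elementary group generated by `zM`, `aM`, `bM`. -/
def subA : Subgroup Hyp192 :=
  maskSub 56146590541954846471456810226241754890405 (by decide +kernel) (by decide +kernel)

theorem mem_sylP {x : Hyp192} : x ∈ sylP ↔ inMask maskP x.code.val = true := Iff.rfl
theorem mem_subQ {x : Hyp192} : x ∈ subQ ↔ inMask maskQ x.code.val = true := Iff.rfl
theorem mem_subD {x : Hyp192} : x ∈ subD ↔ inMask 11889503016258109605 x.code.val = true := Iff.rfl
theorem mem_subA {x : Hyp192} :
    x ∈ subA ↔ inMask 56146590541954846471456810226241754890405 x.code.val = true := Iff.rfl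

theorem card_sylP : Nat.card sylP = 64 := (card_maskSub _ _ _).trans sylow_count.1
theorem card_subQ : Nat.card subQ = 32 := (card_maskSub _ _ _).trans sylow_count.2
theorem card_subD : Nat.card subD = 8 := (card_maskSub _ _ _).trans (by decide +kernel)
theorem card_subA : Nat.card subA = 8 := (card_maskSub _ _ _).trans (by decide +kernel)

theorem sylP_centre {x : Hyp192} (hx : x ∈ sylP) (hc : ∀ y ∈ sylP, Commute x y) : x = 1 ∨ x = zM := by
  have h := test sylow_centre x
  rw [mem_sylP.1 hx] at h
  simp only [Bool.not_true, Bool.false_or, Bool.or_eq_true, Nat.beq_eq] at h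
  rcases h with (h | h) | h
  · exact Or.inl (eq_iff.2 h)
  · exact Or.inr (eq_iff.2 h)
  · obtain ⟨y, hy⟩ := exists_of_any h
    simp only [Bool.and_eq_true, Bool.not_eq_true'] at hy
    rw [commute_iff.1 (hc y hy.1)] at hy
    simp at hy

theorem reps_mem_sylP : zM ∈ sylP ∧ aM ∈ sylP ∧ bM ∈ sylP ∧ cM ∈ sylP :=
  ⟨mem_sylP.2 (by decide +kernel), mem_sylP.2 (by decide +kernel), mem_sylP.2 (by decide +kernel),
    mem_sylP.2 (by decide +kernel)⟩

theorem subQ_facts {x : Hyp192} (hx : x ∈ subQ) : x ∈ sylP ∧ ¬ IsConj cM x := by
  have h := test index_two_closed x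
  rw [mem_subQ.1 hx] at h
  simp only [Bool.not_true, Bool.false_or, Bool.and_eq_true, Bool.not_eq_true'] at h
  exact ⟨mem_sylP.2 h.1.1.1, fun hc => by rw [isConj_c.1 hc] at h; simp at h⟩

theorem cM_not_mem_subQ : cM ∉ subQ := fun h => (subQ_facts h).2 (IsConj.refl _)

theorem commutator_cases {x y : Hyp192} (hx : Commute x bM) (hy : Commute y bM) :
    x⁻¹ * y⁻¹ * (x * y) = 1 ∨ x⁻¹ * y⁻¹ * (x * y) = zM := by
  have h := test commutator_check x
  rw [show commC x.code.val 128 = true from code_bM ▸ commute_iff.1 hx] at h
  simp only [Bool.not_true, Bool.false_or] at h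
  have h' := test_range h y
  rw [show commC y.code.val 128 = true from code_bM ▸ commute_iff.1 hy] at h'
  simp only [Bool.not_true, Bool.false_or, Bool.or_eq_true, Nat.beq_eq] at h'
  rw [eq_iff, eq_iff]
  simpa only [code_mul, code_inv, code_one, code_zM] using h'

theorem commutator_au : aM⁻¹ * uM⁻¹ * (aM * uM) = zM := by
  rw [eq_iff]
  simp only [code_mul, code_inv, code_aM, code_uM, code_zM]
  exact special_codes.2.2.2.2.2.2.2.2.2.2.2

theorem sq_of_comm_b {x : Hyp192} (hx : Commute x bM) (h2 : x * x = 1) :
    x = 1 ∨ x = zM ∨ x = aM ∨ x = zaM ∨ IsConj bM x := by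
  have h := test cent_b_invol x
  rw [show commC x.code.val 128 = true from code_bM ▸ commute_iff.1 hx, ← code_mul, h2] at h
  simp only [Bool.not_true, Bool.false_or, Bool.or_eq_true, Bool.not_eq_true', Nat.beq_eq] at h
  rw [isConj_b, eq_iff, eq_iff, eq_iff, eq_iff]
  rcases h with ((((h | h) | h) | h) | h) | h
  · exact absurd h (by rw [code_one]; decide)
  · exact Or.inl h
  · exact Or.inr (Or.inl h)
  · exact Or.inr (Or.inr (Or.inl h))
  · exact Or.inr (Or.inr (Or.inr (Or.inl h)))
  · exact Or.inr (Or.inr (Or.inr (Or.inr h)))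

theorem of_comm_c {x : Hyp192} (hx : Commute x cM) :
    x = 1 ∨ x = zM ∨ x = aM ∨ x = zaM ∨ IsConj cM x := by
  have h := test cent_c_check x
  rw [show commC x.code.val 112 = true from code_cM ▸ commute_iff.1 hx] at h
  simp only [Bool.not_true, Bool.false_or, Bool.or_eq_true, Nat.beq_eq] at h
  rw [isConj_c, eq_iff, eq_iff, eq_iff, eq_iff]
  rcases h with (((h | h) | h) | h) | h
  · exact Or.inl h
  · exact Or.inr (Or.inl h)
  · exact Or.inr (Or.inr (Or.inl h))
  · exact Or.inr (Or.inr (Or.inr (Or.inl h)))
  · exact Or.inr (Or.inr (Or.inr (Or.inr h)))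

theorem zA_commute {x y : Hyp192} (hx : x = zM ∨ IsConj aM x) (hy : y = zM ∨ IsConj aM y) : Commute x y := by
  rw [eq_iff, code_zM, isConj_a] at hx hy
  have h := test zA_check x
  have hx' : (Nat.beq x.code.val 7 || inMask maskA x.code.val) = true := by
    simpa [Nat.beq_eq] using hx
  rw [hx'] at h
  simp only [Bool.not_true, Bool.false_or] at h
  have h' := test_range h y
  have hy' : (Nat.beq y.code.val 7 || inMask maskA y.code.val) = true := by
    simpa [Nat.beq_eq] using hy
  rw [hy'] at h'
  exact commute_iff.2 (by simpa using h')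

end CfsgLib.KGroups.M12TwoCentral.Hyp192
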