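import Cfsg.Agent.Lib.KGroups.M12TwoCentral.Model

/-!
# Computations in the signed permutations of determinant one
-/

set_option autoImplicit false
set_option maxRecDepth 40000

namespace CfsgLib.KGroups.M12TwoCentral

/-- The classes of `a`, `b`, `c`, a Sylow subgroup and a subgroup of index two in it, as bit masks. -/
def maskA : ℕ := 126

/-- The class of `b`. -/
def maskB : ℕ := 4781386087501573294224633266663811124358301099342396653568

/-- The class of `c`. -/
def maskC : ℕ := 22448665149402669680337580688768665932611645677463040

/-- A Sylow subgroup. -/
def maskP : ℕ := 6252581806738513318901008780212588845751609220972633129215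

/-- A subgroup of index two of it. -/
def maskQ : ℕ := 6252581806732826628874059435612569652343355200089662423295

/-- Membership in a mask. -/
def inMask (m k : ℕ) : Bool := Nat.beq ((m >>> k) % 2) 1

/-- The code commutes. -/
def commC (k l : ℕ) : Bool := Nat.beq (mulN k l) (mulN l k)

/-- The conjugate. -/
def conjC (h k : ℕ) : ℕ := mulN (mulN h k) (invN h)

/-- Some power of the code among the first four is the code seven. -/
def hitsC (p : ℕ) : Bool :=
  Nat.beq p 7 || Nat.beq (mulN p p) 7 || Nat.beq (mulN (mulN p p) p) 7 ||
    Nat.beq (mulN (mulN (mulN p p) p) p) 7

/-- The powers of a code. -/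
def powC (p : ℕ) : ℕ → ℕ
  | 0 => 0
  | n + 1 => mulN (powC p n) p

/-- A Boolean test over all codes. -/
abbrev All192 (f : ℕ → Bool) : Prop := (List.range 192).all f = true

theorem class_closed : All192 fun h =>
    inMask maskA (conjC h 5) && inMask maskB (conjC h 128) && inMask maskC (conjC h 112) := by decide +kernel

theorem class_witness : All192 fun x =>
    (!inMask maskA x || (List.range 192).any fun h => Nat.beq (conjC h 5) x) &&
      (!inMask maskB x || (List.range 192).any fun h => Nat.beq (conjC h 128) x) &&
      (!inMask maskC x || (List.range 192).any fun h => Nat.beq (conjC h 112) x) := by decide +kernel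

theorem invol_check : All192 fun x => !Nat.beq (mulN x x) 0 || Nat.beq x 0 || Nat.beq x 7 ||
    inMask maskA x || inMask maskB x || inMask maskC x := by decide +kernel

theorem central_check : All192 fun x => commC x 7 := by decide +kernel

theorem cent_counts : ((List.range 192).filter fun h => commC h 5).length = 32 ∧
    ((List.range 192).filter fun h => commC h 128).length = 16 ∧
    ((List.range 192).filter fun h => commC h 112).length = 8 := by decide +kernel

theorem sylow_closed : All192 fun x => !inMask maskP x ||
    (inMask maskP (invN x) && (List.range 192).all fun y => !inMask maskP y || inMask maskP (mulN x y)) := by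
  decide +kernel

theorem sylow_count : ((List.range 192).filter fun h => inMask maskP h).length = 64 ∧
    ((List.range 192).filter fun h => inMask maskQ h).length = 32 := by decide +kernel

theorem sylow_centre : All192 fun x => !inMask maskP x || Nat.beq x 0 || Nat.beq x 7 ||
    (List.range 192).any fun y => inMask maskP y && !commC x y := by decide +kernel

theorem index_two_closed : All192 fun x => !inMask maskQ x ||
    (inMask maskP x && inMask maskQ (invN x) && !inMask maskC x &&
      (List.range 192).all fun y => !inMask maskQ y || inMask maskQ (mulN x y)) := by
  decide +kernel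

theorem commutator_check : All192 fun x => !commC x 128 || (List.range 192).all fun y => !commC y 128 ||
    Nat.beq (mulN (mulN (invN x) (invN y)) (mulN x y)) 0 || Nat.beq (mulN (mulN (invN x) (invN y)) (mulN x y)) 7 := by
  decide +kernel

theorem cent_b_invol : All192 fun x => !commC x 128 || !Nat.beq (mulN x x) 0 ||
    Nat.beq x 0 || Nat.beq x 7 || Nat.beq x 5 || Nat.beq x 2 || inMask maskB x := by decide +kernel

theorem cent_c_check : All192 fun x => !commC x 112 ||
    Nat.beq x 0 || Nat.beq x 7 || Nat.beq x 5 || Nat.beq x 2 || inMask maskC x := by decide +kernel

theorem zA_check : All192 fun x => !(Nat.beq x 7 || inMask maskA x) ||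
    (List.range 192).all fun y => !(Nat.beq y 7 || inMask maskA y) || commC x y := by decide +kernel

theorem zA_count : ((List.range 192).filter fun x => Nat.beq x 7 || inMask maskA x).length = 7 := by
  decide +kernel

theorem noncomm_count : (((List.range 192).filter fun x => inMask maskA x || inMask maskC x).map fun x =>
    ((List.range 192).filter fun y => (inMask maskA y || inMask maskC y) && !commC x y &&
      hitsC (mulN x y)).length).sum = 288 := by decide +kernel

theorem pairs_count_one : (((List.range 192).filter fun x => Nat.beq x 7 || inMask maskA x || inMask maskC x).map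
    fun x => ((List.range 192).filter fun y => inMask maskB y && hitsC (mulN x y)).length).sum = 240 := by
  decide +kernel

theorem pairs_count_two : (((List.range 192).filter fun x => Nat.beq x 7 || inMask maskA x).map
    fun x => ((List.range 192).filter fun y => (inMask maskB y || inMask maskC y) && hitsC (mulN x y)).length).sum =
      48 := by
  decide +kernel

theorem pow_check : All192 fun p => Nat.beq (powC p 24) 0 &&
    (List.range 24).all fun m => !Nat.beq (powC p m) 7 || hitsC p := by decide +kernel

theorem special_codes : mulN 7 5 = 2 ∧ commC 112 5 = true ∧ commC 128 5 = true ∧ commC 128 56 = true ∧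
    inMask maskB (mulN 7 128) = true ∧ inMask maskB (mulN 5 128) = true ∧ inMask maskB (mulN 2 128) = true ∧
    inMask maskB 56 = true ∧ inMask maskB (mulN 56 128) = true ∧ inMask maskA 5 = true ∧ inMask maskA 2 = true ∧
    mulN (mulN (invN 5) (invN 56)) (mulN 5 56) = 7 := by decide +kernel

end CfsgLib.KGroups.M12TwoCentral
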