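import Cfsg.Agent.Lib.KGroups.M12TwoCentral.Dict
import Cfsg.Agent.Lib.Fusion.ThompsonTransfer
import Cfsg.Agent.Lib.Involution.Dihedral
import Cfsg.Agent.S0215

/-!
# Fusion of involutions when a centraliser is the group of signed permutations of determinant one
-/

set_option autoImplicit false
set_option linter.unusedSectionVars false
set_option linter.style.haveILetI false

namespace CfsgLib.KGroups.M12TwoCentral

open Hyp192 Subgroup CfsgLib.Involution.Dihedral

/-- A group with an involution `t` whose centraliser is the image of `Hyp192`. -/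
structure Emb (G : Type*) [Group G] where
  /-- The involution. -/
  t : G
  /-- The embedding. -/
  hom : Hyp192 →* G
  inj : Function.Injective hom
  range_eq : hom.range = Subgroup.centralizer ({t} : Set G)
  map_z : hom zM = t

theorem orders : orderOf zM = 2 ∧ orderOf aM = 2 ∧ orderOf zaM = 2 ∧ orderOf bM = 2 ∧ orderOf cM = 2 ∧
    orderOf uM = 2 ∧ orderOf (uM * bM) = 2 := by
  refine ⟨?_, ?_, ?_, ?_, ?_, ?_, ?_⟩ <;>
    exact orderOf_eq_two (Hyp192.eq_iff.2 (by decide +kernel)) (by decide +kernel)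

theorem rep_facts : zM * aM = zaM ∧ IsConj aM zaM ∧ Commute aM cM ∧ Commute zaM cM ∧ Commute aM bM ∧
    Commute uM bM ∧ Commute zaM bM ∧ IsConj bM (zM * bM) ∧ IsConj bM (aM * bM) ∧ IsConj bM (zaM * bM) ∧
    IsConj bM uM ∧ IsConj bM (uM * bM) ∧ aM ≠ zaM :=
  ⟨Hyp192.eq_iff.2 (by decide +kernel), isConj_a.2 (by decide +kernel), commute_iff.2 (by decide +kernel),
    commute_iff.2 (by decide +kernel), commute_iff.2 (by decide +kernel), commute_iff.2 (by decide +kernel),
    commute_iff.2 (by decide +kernel), isConj_b.2 (by decide +kernel), isConj_b.2 (by decide +kernel),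
    isConj_b.2 (by decide +kernel), isConj_b.2 (by decide +kernel), isConj_b.2 (by decide +kernel), by decide +kernel⟩

namespace Emb

variable {G : Type*} [Group G] [Finite G] (S : Emb G)

theorem orderOf_hom (x : Hyp192) : orderOf (S.hom x) = orderOf x := orderOf_injective S.hom S.inj x

theorem orderOf_t : orderOf S.t = 2 := by rw [← S.map_z, S.orderOf_hom, orders.1]

theorem commute_t (x : Hyp192) : Commute (S.hom x) S.t := by
  rw [← S.map_z]; exact (zM_central x).map S.hom

theorem exists_pre {g : G} (h : Commute g S.t) : ∃ x, S.hom x = g := by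
  rw [← MonoidHom.mem_range, S.range_eq]
  exact mem_centralizer_singleton_iff.2 h.eq

theorem commute_hom_iff {x y : Hyp192} : Commute (S.hom x) (S.hom y) ↔ Commute x y :=
  ⟨fun h => S.inj (by rw [map_mul, map_mul]; exact h.eq), fun h => h.map S.hom⟩

theorem map_cent (x : Hyp192) : (centralizer ({x} : Set Hyp192)).map S.hom =
    centralizer ({S.t} : Set G) ⊓ centralizer ({S.hom x} : Set G) := by
  ext g
  rw [Subgroup.mem_map, Subgroup.mem_inf, mem_centralizer_singleton_iff, mem_centralizer_singleton_iff]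
  constructor
  · rintro ⟨y, hy, rfl⟩
    exact ⟨(S.commute_t y).eq, (S.commute_hom_iff.2 (mem_centralizer_singleton_iff.1 hy)).eq⟩
  · rintro ⟨h1, h2⟩
    obtain ⟨y, rfl⟩ := S.exists_pre h1
    exact ⟨y, mem_centralizer_singleton_iff.2 (S.commute_hom_iff.1 h2).eq, rfl⟩

theorem card_cent_inf (x : Hyp192) :
    Nat.card ↥(centralizer ({S.t} : Set G) ⊓ centralizer ({S.hom x} : Set G)) =
      Nat.card (centralizer ({x} : Set Hyp192)) := by
  rw [← S.map_cent, Nat.card_congr (Subgroup.equivMapOfInjective _ _ S.inj).toEquiv.symm]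

theorem card_cent_t : Nat.card (centralizer ({S.t} : Set G)) = 192 := by
  rw [← S.range_eq, Nat.card_congr (MonoidHom.ofInjective S.inj).toEquiv.symm, Hyp192.card_eq]

theorem card_inf_conj (g x y : G) :
    Nat.card ↥(centralizer ({g * x * g⁻¹} : Set G) ⊓ centralizer ({g * y * g⁻¹} : Set G)) =
      Nat.card ↥(centralizer ({x} : Set G) ⊓ centralizer ({y} : Set G)) := by
  refine (Nat.card_congr (Equiv.subtypeEquiv (MulAut.conj g).toEquiv fun h => ?_)).symm
  simp only [Subgroup.mem_inf, mem_centralizer_singleton_iff, MulEquiv.toEquiv_eq_coe, EquivLike.coe_coe,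
    MulAut.conj_apply]
  exact and_congr (commute_conj_iff g (a := h) (b := x)).symm (commute_conj_iff g (a := h) (b := y)).symm
where
  commute_conj_iff (g : G) {a b : G} : Commute (g * a * g⁻¹) (g * b * g⁻¹) ↔ Commute a b := by
    constructor
    · intro h
      have h' := congrArg (fun w => g⁻¹ * w * g) h.eq
      show a * b = b * a
      calc a * b = g⁻¹ * (g * a * g⁻¹ * (g * b * g⁻¹)) * g := by group
        _ = g⁻¹ * (g * b * g⁻¹ * (g * a * g⁻¹)) * g := h'
        _ = b * a := by group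
    · intro h
      show g * a * g⁻¹ * (g * b * g⁻¹) = g * b * g⁻¹ * (g * a * g⁻¹)
      calc g * a * g⁻¹ * (g * b * g⁻¹) = g * (a * b) * g⁻¹ := by group
        _ = g * (b * a) * g⁻¹ := by rw [h.eq]
        _ = _ := by group

/-- If `t` is conjugate to an involution of its centraliser recognised by the order of its centraliser
there, then some element interchanges the two. -/
theorem swap {x : Hyp192}
    (huniq : ∀ y : Hyp192, orderOf y = 2 →
      Nat.card (centralizer ({y} : Set Hyp192)) = Nat.card (centralizer ({x} : Set Hyp192)) → IsConj x y)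
    (h : IsConj S.t (S.hom x)) :
    ∃ g : G, g * S.t * g⁻¹ = S.hom x ∧ g * S.hom x * g⁻¹ = S.t := by
  obtain ⟨g, hg⟩ := isConj_iff.1 h
  set w := g⁻¹ * S.t * g with hw
  have hgw : g * w * g⁻¹ = S.t := by rw [hw]; group
  have hwt : Commute w S.t := by
    rw [← card_inf_conj.commute_conj_iff g, hgw, hg]
    exact (S.commute_t x).symm
  obtain ⟨y, hy⟩ := S.exists_pre hwt
  have hyo : orderOf y = 2 := by
    rw [← S.orderOf_hom, hy, ← orderOf_conj g w, hgw, S.orderOf_t]
  have hcy : Nat.card (centralizer ({y} : Set Hyp192)) = Nat.card (centralizer ({x} : Set Hyp192)) := by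
    rw [← S.card_cent_inf, ← S.card_cent_inf, hy, ← card_inf_conj g S.t w, hgw, hg, inf_comm]
  obtain ⟨k, hk⟩ := isConj_iff.1 (huniq y hyo hcy)
  refine ⟨g * S.hom k, ?_, ?_⟩
  · calc g * S.hom k * S.t * (g * S.hom k)⁻¹ = g * (S.hom k * S.t * (S.hom k)⁻¹) * g⁻¹ := by group
      _ = g * S.t * g⁻¹ := by rw [(S.commute_t k).eq, mul_inv_cancel_right]
      _ = S.hom x := hg
  · calc g * S.hom k * S.hom x * (g * S.hom k)⁻¹ = g * S.hom (k * x * k⁻¹) * g⁻¹ := by
          rw [map_mul, map_mul, map_inv]; group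
      _ = S.t := by rw [hk, hy, hgw]

theorem uniq_b : ∀ y : Hyp192, orderOf y = 2 →
    Nat.card (centralizer ({y} : Set Hyp192)) = Nat.card (centralizer ({bM} : Set Hyp192)) → IsConj bM y := by
  intro y hy h
  rw [card_cent_b] at h
  rcases class_of_card hy with h' | h' | h' | h' <;> first | exact h'.1 | (rw [h] at h'; omega)

theorem uniq_c : ∀ y : Hyp192, orderOf y = 2 →
    Nat.card (centralizer ({y} : Set Hyp192)) = Nat.card (centralizer ({cM} : Set Hyp192)) → IsConj cM y := by
  intro y hy h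
  rw [card_cent_c] at h
  rcases class_of_card hy with h' | h' | h' | h' <;> first | exact h'.1 | (rw [h] at h'; omega)

/-- The involution `t` is not conjugate to the one with centraliser of order 16 in `C(t)`. -/
theorem not_conj_b : ¬ IsConj S.t (S.hom bM) := by
  intro h
  obtain ⟨g, hg1, hg2⟩ := S.swap uniq_b h
  have key : ∀ x : Hyp192, Commute x bM → ∃ p : Hyp192, Commute p bM ∧ g * S.hom x * g⁻¹ = S.hom p := by
    intro x hx
    have h1 : Commute (g * S.hom x * g⁻¹) S.t := by
      rw [← hg2, card_inf_conj.commute_conj_iff]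
      exact S.commute_hom_iff.2 hx
    obtain ⟨p, hp⟩ := S.exists_pre h1
    refine ⟨p, S.commute_hom_iff.1 ?_, hp.symm⟩
    rw [hp, ← hg1, card_inf_conj.commute_conj_iff]
    exact S.commute_t x
  obtain ⟨p, hp, hp'⟩ := key aM rep_facts.2.2.2.2.1
  obtain ⟨q, hq, hq'⟩ := key uM rep_facts.2.2.2.2.2.1
  have e : S.hom (p⁻¹ * q⁻¹ * (p * q)) = S.hom bM := by
    rw [map_mul, map_mul, map_mul, map_inv, map_inv, ← hp', ← hq']
    calc _ = g * (S.hom aM⁻¹ * S.hom uM⁻¹ * (S.hom aM * S.hom uM)) * g⁻¹ := by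
          rw [map_inv, map_inv]; group
      _ = g * S.t * g⁻¹ := by rw [← map_mul, ← map_mul, ← map_mul, commutator_au, S.map_z]
      _ = S.hom bM := hg1
  have e' := S.inj e
  rcases commutator_cases hp hq with h' | h' <;> rw [h'] at e' <;> revert e' <;> decide +kernel

/-- A Sylow 2-subgroup of the group, inside the centraliser. -/
theorem exists_sylow : ∃ P : Sylow 2 G, (P : Subgroup G) = sylP.map S.hom := by
  haveI : Fact (Nat.Prime 2) := ⟨Nat.prime_two⟩
  set P0 := sylP.map S.hom with hP0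
  have hcard : Nat.card P0 = 64 := by
    rw [hP0, Nat.card_congr (Subgroup.equivMapOfInjective _ _ S.inj).toEquiv.symm, card_sylP]
  obtain ⟨P, hP⟩ := (IsPGroup.of_card (p := 2) (n := 6) (by rw [hcard]; norm_num)).exists_le_sylow
  refine ⟨P, ?_⟩
  by_contra hne
  have hlt : P0 < (P : Subgroup G) := lt_of_le_of_ne hP (Ne.symm hne)
  haveI : Group.IsNilpotent (P : Subgroup G) := P.2.isNilpotent
  have hlt' : P0.subgroupOf P < ⊤ := lt_top_iff_ne_top.2 fun e => hne (le_antisymm (Subgroup.subgroupOf_eq_top.1 e) hP)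
  obtain ⟨n, hnN, hn⟩ := SetLike.exists_of_lt (Group.normalizerCondition_of_isNilpotent _ hlt')
  have hnorm : ∀ y ∈ P0, (n : G) * y * (n : G)⁻¹ ∈ P0 := fun y hy =>
    (Subgroup.mem_subgroupOf.1 ((Subgroup.mem_normalizer_iff.1 hnN ⟨y, hP hy⟩).1 (Subgroup.mem_subgroupOf.2 hy)) :)
  obtain ⟨w, hw, hwe⟩ := Subgroup.mem_map.1 (hnorm S.t (S.map_z ▸ Subgroup.mem_map_of_mem _ reps_mem_sylP.1))
  have hwc : ∀ y ∈ sylP, Commute w y := fun y hy => by
    obtain ⟨y', hy', hye⟩ := Subgroup.mem_map.1 (hnorm _ (Subgroup.mem_map_of_mem S.hom hy))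
    rw [← S.commute_hom_iff, ← card_inf_conj.commute_conj_iff (n : G)⁻¹]
    have e1 : (n : G)⁻¹ * S.hom w * (n : G)⁻¹⁻¹ = S.t := by rw [hwe]; group
    rw [e1]
    have hmem : (n : G)⁻¹ * S.hom y * (n : G)⁻¹⁻¹ ∈ P0 := by
      have := (Subgroup.mem_normalizer_iff.1 ((Subgroup.normalizer _).inv_mem hnN) ⟨S.hom y, hP (Subgroup.mem_map_of_mem S.hom hy)⟩).1
        (Subgroup.mem_subgroupOf.2 (Subgroup.mem_map_of_mem S.hom hy))
      exact Subgroup.mem_subgroupOf.1 this
    obtain ⟨y'', -, hy''⟩ := Subgroup.mem_map.1 hmem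
    rw [← hy'']
    exact (S.commute_t y'').symm
  rcases sylP_centre hw hwc with rfl | rfl
  · rw [map_one] at hwe
    exact ne_one S.orderOf_t (conj_eq_one_iff.1 hwe.symm)
  · rw [S.map_z] at hwe
    have hnt : (n : G) ∈ centralizer ({S.t} : Set G) :=
      mem_centralizer_singleton_iff.2 (mul_inv_eq_iff_eq_mul.1 hwe.symm)
    have hle : P0 ≤ (P : Subgroup G) ⊓ centralizer ({S.t} : Set G) := le_inf hP (by
      rintro _ ⟨y, -, rfl⟩
      exact mem_centralizer_singleton_iff.2 (S.commute_t y).eq)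
    obtain ⟨k, hk⟩ := IsPGroup.iff_card.1 (P.2.to_le (inf_le_left :
      (P : Subgroup G) ⊓ centralizer ({S.t} : Set G) ≤ P))
    have hd : Nat.card ↥((P : Subgroup G) ⊓ centralizer ({S.t} : Set G)) ∣ 192 :=
      S.card_cent_t ▸ Subgroup.card_dvd_of_le inf_le_right
    rw [hk] at hd
    have h6 : k ≤ 6 := by
      by_contra hk'
      exact absurd ((pow_dvd_pow 2 (show 7 ≤ k by omega)).trans hd) (by norm_num)
    have heq := Subgroup.eq_of_le_of_card_ge hle (by rw [hk, hcard]; exact Nat.pow_le_pow_right (by norm_num) h6)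
    exact hn (Subgroup.mem_subgroupOf.2 (heq ▸ Subgroup.mem_inf.2 ⟨n.2, hnt⟩))

/-- Every involution is conjugate to an involution of the centraliser of `t` in a Sylow subgroup. -/
theorem exists_rep {g : G} (hg : orderOf g = 2) :
    ∃ y ∈ sylP, orderOf y = 2 ∧ IsConj g (S.hom y) := by
  haveI : Fact (Nat.Prime 2) := ⟨Nat.prime_two⟩
  obtain ⟨P, hP⟩ := S.exists_sylow
  obtain ⟨k, hk⟩ := CfsgLib.Involution.Basic.exists_conj_mem P hg
  have hk' : k * g * k⁻¹ ∈ sylP.map S.hom := hP ▸ hk
  obtain ⟨y, hy, hye⟩ := Subgroup.mem_map.1 hk'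
  exact ⟨y, hy, by rw [← S.orderOf_hom, hye, orderOf_conj, hg], isConj_iff.2 ⟨k, hye.symm⟩⟩

theorem four_classes {g : G} (hg : orderOf g = 2) :
    IsConj S.t g ∨ IsConj (S.hom aM) g ∨ IsConj (S.hom bM) g ∨ IsConj (S.hom cM) g := by
  obtain ⟨y, -, hy, hyg⟩ := S.exists_rep hg
  rcases class_of_card hy with ⟨rfl, -⟩ | ⟨h, -⟩ | ⟨h, -⟩ | ⟨h, -⟩
  · exact Or.inl (S.map_z ▸ hyg.symm)
  · exact Or.inr (Or.inl ((S.hom.map_isConj h).trans hyg.symm))
  · exact Or.inr (Or.inr (Or.inl ((S.hom.map_isConj h).trans hyg.symm)))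
  · exact Or.inr (Or.inr (Or.inr ((S.hom.map_isConj h).trans hyg.symm)))

theorem conj_a_of_conj_c (h : IsConj S.t (S.hom cM)) : IsConj S.t (S.hom aM) := by
  by_contra ha
  obtain ⟨g, hg1, hg2⟩ := S.swap uniq_c h
  have key : ∀ x : Hyp192, IsConj aM x → Commute x cM →
      g * S.hom x * g⁻¹ = S.hom aM ∨ g * S.hom x * g⁻¹ = S.hom zaM := by
    intro x hxa hxc
    have h1 : Commute (g * S.hom x * g⁻¹) S.t := by
      rw [← hg2, card_inf_conj.commute_conj_iff]
      exact S.commute_hom_iff.2 hxc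
    obtain ⟨p, hp⟩ := S.exists_pre h1
    have hpc : Commute p cM := S.commute_hom_iff.1 (by
      rw [hp, ← hg1, card_inf_conj.commute_conj_iff]; exact S.commute_t x)
    have hx : IsConj (S.hom x) (S.hom p) := isConj_iff.2 ⟨g, hp.symm⟩
    have hxt : IsConj S.t (S.hom x) → False := fun e => ha (e.trans (S.hom.map_isConj hxa).symm)
    rcases of_comm_c hpc with rfl | rfl | rfl | rfl | hc
    · exfalso
      have := S.orderOf_hom x
      rw [map_one] at hp
      rw [conj_eq_one_iff.1 hp.symm, orderOf_one, ← (show orderOf aM = orderOf x from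
        orderOf_eq_of_isConj hxa), orders.2.1] at this
      omega
    · exact (hxt (S.map_z ▸ hx).symm).elim
    · exact Or.inl hp.symm
    · exact Or.inr hp.symm
    · exact (hxt ((h.trans (S.hom.map_isConj hc)).trans hx.symm)).elim
  have h1 := key aM (IsConj.refl _) rep_facts.2.2.1
  have h2 := key zaM rep_facts.2.1 rep_facts.2.2.2.1
  have hne : g * S.hom aM * g⁻¹ ≠ g * S.hom zaM * g⁻¹ := fun e =>
    rep_facts.2.2.2.2.2.2.2.2.2.2.2.2 (S.inj (mul_left_cancel (mul_right_cancel e)))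
  have hprod : g * S.t * g⁻¹ = g * S.hom aM * g⁻¹ * (g * S.hom zaM * g⁻¹) := by
    have : S.t = S.hom aM * S.hom zaM := by
      rw [← map_mul, ← S.map_z]
      exact congrArg S.hom (by decide +kernel)
    rw [this]; group
  rw [hg1] at hprod
  rcases h1 with e1 | e1 <;> rcases h2 with e2 | e2 <;> rw [e1, e2] at hprod hne
  · exact hne rfl
  · exact absurd (S.inj (hprod.trans (map_mul S.hom _ _).symm)) (by decide +kernel)
  · exact absurd (S.inj (hprod.trans (map_mul S.hom _ _).symm)) (by decide +kernel)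
  · exact hne rfl
where
  orderOf_eq_of_isConj {x y : Hyp192} (h : IsConj x y) : orderOf x = orderOf y := by
    obtain ⟨g, rfl⟩ := isConj_iff.1 h
    rw [CfsgLib.Involution.Dihedral.orderOf_conj]

variable [IsSimpleGroup G]

theorem not_normal_two (hG : ¬ IsMulCommutative G) (M : Subgroup G) (hM : M.Normal) : M.index ≠ 2 := by
  intro h
  rcases hM.eq_bot_or_eq_top with rfl | rfl
  · rw [Subgroup.index_bot] at h
    haveI : Fact (Nat.Prime 2) := ⟨Nat.prime_two⟩
    haveI := isCyclic_of_prime_card (α := G) h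
    exact hG IsCyclic.isMulCommutative
  · simp at h

/-- The involution `t` is conjugate to the one with centraliser of order 32 in `C(t)`. -/
theorem conj_a (hG : ¬ IsMulCommutative G) : IsConj S.t (S.hom aM) := by
  obtain ⟨P, hP⟩ := S.exists_sylow
  have htP : S.t ∈ P := by
    show S.t ∈ (P : Subgroup G)
    rw [hP, ← S.map_z]
    exact Subgroup.mem_map_of_mem _ reps_mem_sylP.1
  by_cases hiso : ∀ g : G, g * S.t * g⁻¹ ∈ P → g * S.t * g⁻¹ = S.t
  · exfalso
    obtain ⟨N, hN, hodd, hcomm⟩ := Cfsg.Agent.S0215.result P S.t S.orderOf_t htP hiso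
    rcases hN.eq_bot_or_eq_top with rfl | rfl
    · have hc : S.t ∈ Subgroup.center G := Subgroup.mem_center_iff.2 fun g => by
        have := hcomm g
        rw [Subgroup.mem_bot, mul_inv_eq_one, mul_inv_eq_iff_eq_mul] at this
        exact this.symm
      rcases (inferInstance : (Subgroup.center G).Normal).eq_bot_or_eq_top with h | h
      · rw [h, Subgroup.mem_bot] at hc
        exact ne_one S.orderOf_t hc
      · exact hG ⟨⟨fun x y => (Subgroup.mem_center_iff.1 (h ▸ Subgroup.mem_top x) y).symm⟩⟩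
    · rw [Subgroup.card_top] at hodd
      exact (Nat.not_even_iff_odd.2 hodd) (even_iff_two_dvd.2 (S.orderOf_t ▸ orderOf_dvd_natCard S.t))
  · push Not at hiso
    obtain ⟨g, hg, hne⟩ := hiso
    obtain ⟨y, hy, hye⟩ := Subgroup.mem_map.1 (show g * S.t * g⁻¹ ∈ sylP.map S.hom from hP ▸ hg)
    have hyo : orderOf y = 2 := by rw [← S.orderOf_hom, hye, orderOf_conj, S.orderOf_t]
    have hty : IsConj S.t (S.hom y) := isConj_iff.2 ⟨g, hye.symm⟩
    rcases class_of_card hyo with ⟨rfl, -⟩ | ⟨h, -⟩ | ⟨h, -⟩ | ⟨h, -⟩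
    · exact absurd (hye.symm.trans S.map_z) hne
    · exact hty.trans (S.hom.map_isConj h).symm
    · exact (S.not_conj_b (hty.trans (S.hom.map_isConj h).symm)).elim
    · exact S.conj_a_of_conj_c (hty.trans (S.hom.map_isConj h).symm)

theorem c_cases (hG : ¬ IsMulCommutative G) : IsConj S.t (S.hom cM) ∨ IsConj (S.hom bM) (S.hom cM) := by
  obtain ⟨P, hP⟩ := S.exists_sylow
  have hle : subQ.map S.hom ≤ (P : Subgroup G) := by
    rw [hP]; exact Subgroup.map_mono fun x hx => (subQ_facts hx).1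
  have hidx : (subQ.map S.hom).relIndex (P : Subgroup G) = 2 := by
    have h := Subgroup.card_mul_index ((subQ.map S.hom).subgroupOf (P : Subgroup G))
    rw [Nat.card_congr (Subgroup.subgroupOfEquivOfLe hle).toEquiv, ← Subgroup.relIndex, hP,
      Nat.card_congr (Subgroup.equivMapOfInjective sylP _ S.inj).toEquiv.symm,
      Nat.card_congr (Subgroup.equivMapOfInjective subQ _ S.inj).toEquiv.symm, card_sylP, card_subQ] at h
    rw [hP]
    omega
  rcases CfsgLib.Fusion.ThompsonTransfer.thompson_transfer P _ hle hidx (S.hom cM)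
      (by rw [pow_two, ← map_mul, mul_self orders.2.2.2.2.1, map_one])
      (by rw [hP]; exact Subgroup.mem_map_of_mem _ reps_mem_sylP.2.2.2)
      (fun h => cM_not_mem_subQ ((Subgroup.mem_map_iff_mem S.inj).1 h)) with ⟨M, hM, hMi, -⟩ | ⟨g, hg⟩
  · exact absurd hMi (not_normal_two hG M hM)
  · obtain ⟨y, hy, hye⟩ := Subgroup.mem_map.1 hg
    have hyo : orderOf y = 2 := by rw [← S.orderOf_hom, hye, orderOf_conj, S.orderOf_hom, orders.2.2.2.2.1]
    have hcy : IsConj (S.hom cM) (S.hom y) := isConj_iff.2 ⟨g, hye.symm⟩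
    rcases class_of_card hyo with ⟨rfl, -⟩ | ⟨h, -⟩ | ⟨h, -⟩ | ⟨h, -⟩
    · exact Or.inl (S.map_z ▸ hcy.symm)
    · exact Or.inl (((S.conj_a hG).trans (S.hom.map_isConj h)).trans hcy.symm)
    · exact Or.inr ((S.hom.map_isConj h).trans hcy.symm)
    · exact absurd h (subQ_facts hy).2

theorem two_classes (hG : ¬ IsMulCommutative G) {g : G} (hg : orderOf g = 2) :
    IsConj S.t g ∨ IsConj (S.hom bM) g := by
  rcases S.four_classes hg with h | h | h | h
  · exact Or.inl h
  · exact Or.inl ((S.conj_a hG).trans h)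
  · exact Or.inr h
  · rcases S.c_cases hG with e | e
    · exact Or.inl (e.trans h)
    · exact Or.inr (e.trans h)

/-- The common centraliser of `bM` and a conjugate of `aM` is a small 2-group. -/
theorem card_cent_a_b (hG : ¬ IsMulCommutative G) {x : Hyp192} (hx : IsConj aM x) (hxb : Commute x bM) :
    Nat.card ↥(centralizer ({S.hom x} : Set G) ⊓ centralizer ({S.hom bM} : Set G)) ∣ 16 := by
  have htx : IsConj S.t (S.hom x) := (S.conj_a hG).trans (S.hom.map_isConj hx)
  obtain ⟨g, hg⟩ := isConj_iff.1 htx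
  set w := g⁻¹ * S.hom bM * g with hw
  have hgw : g * w * g⁻¹ = S.hom bM := by rw [hw]; group
  have hwt : Commute w S.t := by
    rw [← card_inf_conj.commute_conj_iff g, hgw, hg]
    exact S.commute_hom_iff.2 hxb.symm
  obtain ⟨y, hy⟩ := S.exists_pre hwt
  have hyo : orderOf y = 2 := by
    rw [← S.orderOf_hom, hy, ← orderOf_conj g w, hgw, S.orderOf_hom, orders.2.2.2.1]
  have hby : IsConj (S.hom y) (S.hom bM) := isConj_iff.2 ⟨g, by rw [hy, hgw]⟩
  rw [← hg, ← hgw, card_inf_conj, ← hy, S.card_cent_inf]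
  rcases class_of_card hyo with ⟨rfl, -⟩ | ⟨h, -⟩ | ⟨-, h⟩ | ⟨-, h⟩
  · exact (S.not_conj_b (S.map_z ▸ hby)).elim
  · exact (S.not_conj_b (((S.conj_a hG).trans (S.hom.map_isConj h)).trans hby)).elim
  · rw [h]
  · rw [h]; norm_num

end Emb

end CfsgLib.KGroups.M12TwoCentral
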