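import Cfsg.Agent.Lib.KGroups.M12TwoCentral.Centralizer

/-!
# The order of the centraliser of the second class of involutions
-/

set_option autoImplicit false
set_option linter.unusedSectionVars false
set_option linter.style.haveILetI false

namespace CfsgLib.KGroups.M12TwoCentral.Emb

open Hyp192 Subgroup CfsgLib.Involution.Dihedral
open CfsgLib.Involution.OrderFormula (Pairs)

variable {G : Type*} [Group G] [Finite G] [IsSimpleGroup G] (S : Emb G)

theorem absurd_b (hG : ¬ IsMulCommutative G) {p : Hyp192} (hp : p = zM ∨ p = aM ∨ p = zaM)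
    (h : IsConj (S.hom bM) (S.hom p)) : False := by
  refine S.not_conj_b (IsConj.trans ?_ h.symm)
  rcases hp with rfl | rfl | rfl
  · rw [S.map_z]
  · exact S.conj_a hG
  · exact (S.conj_a hG).trans (S.hom.map_isConj rep_facts.2.1)

/-- The normal subgroup of index four with Sylow subgroup of order four. -/
structure Quarter (K2 : Subgroup G) (α υ : Hyp192) : Prop where
  hα : α = aM ∨ α = aM * bM
  hυ : υ = uM ∨ υ = uM * bM
  le : K2 ≤ S.cB
  card : Nat.card S.cB = 4 * Nat.card K2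
  conj : ∀ k ∈ S.cB, ∀ x ∈ K2, k * x * k⁻¹ ∈ K2
  t_mem : S.t ∈ K2
  card_inf : Nat.card ↥(S.cE ⊓ K2) = 4
  u_not : S.hom υ ∉ K2
  or_mem : S.hom α ∈ K2 ∨ S.hom (α * υ) ∈ K2

theorem exists_quarter (hG : ¬ IsMulCommutative G) : ∃ K2 α υ, S.Quarter K2 α υ := by
  haveI : Fact (Nat.Prime 2) := ⟨Nat.prime_two⟩
  have hmap : ∀ {x : Hyp192}, x ∈ centralizer ({bM} : Set Hyp192) → S.hom x ∈ S.cE := fun h => mem_map_of_mem _ h
  have hBB : S.hom bM * S.hom bM = 1 := by rw [← map_mul, mul_self orders.2.2.2.1, map_one]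
  have hQ : subD.map S.hom ≤ S.cE := Subgroup.map_mono fun x hx => subD_le hx
  obtain ⟨K1, h1, hB1⟩ := exists_half S.cE_le S.isPGroup_cE S.not_two_dvd_index hQ
    (by rw [S.card_cE, Nat.card_congr (Subgroup.equivMapOfInjective subD _ S.inj).toEquiv.symm, card_subD])
    hBB S.B_mem_cE (fun h => bM_not_mem_subD ((Subgroup.mem_map_iff_mem S.inj).1 h))
    (fun k hk h => bM_not_mem_subD ((Subgroup.mem_map_iff_mem S.inj).1 (by
      rwa [(S.commute_B hk).eq, mul_inv_cancel_right] at h)))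
  have hflip : ∀ {x}, x ∈ S.cB → x ∉ K1 → x * S.hom bM ∈ K1 := fun {x} hx hxn =>
    (h1.mul_iff x hx _ (S.cE_le S.B_mem_cE)).2 (iff_of_false hxn hB1)
  have haE : S.hom aM ∈ S.cE := hmap (mem_centralizer_singleton_iff.2 rep_facts.2.2.2.2.1.eq)
  have huE : S.hom uM ∈ S.cE := hmap (mem_centralizer_singleton_iff.2 rep_facts.2.2.2.2.2.1.eq)
  obtain ⟨α, hα, hα1⟩ : ∃ α, (α = aM ∨ α = aM * bM) ∧ S.hom α ∈ K1 := by
    by_cases h : S.hom aM ∈ K1
    · exact ⟨_, Or.inl rfl, h⟩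
    · exact ⟨_, Or.inr rfl, by rw [map_mul]; exact hflip (S.cE_le haE) h⟩
  obtain ⟨υ, hυ, hυ1⟩ : ∃ υ, (υ = uM ∨ υ = uM * bM) ∧ S.hom υ ∈ K1 := by
    by_cases h : S.hom uM ∈ K1
    · exact ⟨_, Or.inl rfl, h⟩
    · exact ⟨_, Or.inr rfl, by rw [map_mul]; exact hflip (S.cE_le huE) h⟩
  obtain ⟨hcomm, -, -, hυA, hαA, hυb, hαb, hαo, hυo, hbυ, hbυb, -⟩ := choice_facts α υ hα hυ
  have ht1 : S.t ∈ K1 := by
    have := h1.commutator_mem (S.cE_le (hmap hαb)) (S.cE_le (hmap hυb))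
    rwa [← map_inv, ← map_inv, ← map_mul, ← map_mul, ← map_mul, hcomm, S.map_z] at this
  have hE1 : Nat.card ↥(S.cE ⊓ K1) = 8 := by
    have := h1.card_inf S.cE_le S.B_mem_cE hB1
    rw [S.card_cE] at this
    omega
  have hodd : ¬ 2 ∣ ((S.cE ⊓ K1).subgroupOf K1).index := by
    have e1 := ((S.cE ⊓ K1).subgroupOf K1).card_mul_index
    have e2 := (S.cE.subgroupOf S.cB).card_mul_index
    rw [Nat.card_congr (Subgroup.subgroupOfEquivOfLe (inf_le_right : S.cE ⊓ K1 ≤ K1)).toEquiv, hE1] at e1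
    rw [Nat.card_congr (Subgroup.subgroupOfEquivOfLe S.cE_le).toEquiv, S.card_cE, h1.card] at e2
    have h := S.not_two_dvd_index
    omega
  have hA : subA.map S.hom ⊓ K1 ≤ S.cE ⊓ K1 := inf_le_inf_right _ (Subgroup.map_mono fun x hx => subA_le hx)
  have hV : Nat.card ↥(S.cE ⊓ K1) = 2 * Nat.card ↥(subA.map S.hom ⊓ K1) := by
    have := h1.card_inf (L := subA.map S.hom) ((Subgroup.map_mono fun x hx => subA_le hx).trans S.cE_le)
      (a := S.hom bM) (mem_map_of_mem _ (mem_subA.2 (by decide +kernel))) hB1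
    rw [Nat.card_congr (Subgroup.equivMapOfInjective subA _ S.inj).toEquiv.symm, card_subA] at this
    rw [hE1]
    omega
  obtain ⟨K2, h2, hυ2⟩ := exists_half (inf_le_right : S.cE ⊓ K1 ≤ K1)
    (S.isPGroup_cE.to_le inf_le_left) hodd hA hV (u := S.hom υ)
    (by rw [← map_mul, mul_self hυo, map_one]) (Subgroup.mem_inf.2 ⟨hmap hυb, hυ1⟩)
    (fun h => hυA ((Subgroup.mem_map_iff_mem S.inj).1 (Subgroup.mem_inf.1 h).1)) (fun k hk h => by
      obtain ⟨m, hm, hme⟩ := (Subgroup.mem_inf.1 h).1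
      have hkB := S.commute_B (h1.le hk)
      rcases subA_cases hm with rfl | rfl | hp | hp
      · rw [map_one] at hme
        exact ne_one ((S.orderOf_hom υ).trans hυo) (conj_eq_one_iff.1 hme.symm)
      · have : S.hom υ = S.hom bM := by
          calc S.hom υ = k⁻¹ * (k * S.hom υ * k⁻¹) * k := by group
            _ = k⁻¹ * (S.hom bM * k) := by rw [← hme]; group
            _ = k⁻¹ * (k * S.hom bM) := by rw [hkB.eq]
            _ = S.hom bM := by group
        exact hυA (S.inj this ▸ mem_subA.2 (by decide +kernel))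
      · exact S.absurd_b hG hp (isConj_iff.2 ⟨k, hme.symm⟩ |> (S.hom.map_isConj hbυ).trans)
      · refine S.absurd_b hG (p := m * bM) hp ((S.hom.map_isConj hbυb).trans (isConj_iff.2 ⟨k, ?_⟩))
        rw [map_mul, map_mul, hme]
        calc k * (S.hom υ * S.hom bM) * k⁻¹ = k * S.hom υ * k⁻¹ * (k * S.hom bM * k⁻¹) := by group
          _ = k * S.hom υ * k⁻¹ * S.hom bM := by rw [hkB.eq, mul_inv_cancel_right])
  refine ⟨K2, α, υ, hα, hυ, h2.le.trans h1.le, by rw [h1.card, h2.card]; ring, fun k hk x hx => ?_, ?_, ?_, hυ2, ?_⟩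
  · by_cases hk1 : k ∈ K1
    · exact (h2.conj_iff hk1 (h2.le hx)).2 hx
    · have hxB : Commute x (S.hom bM) := S.commute_B (h1.le (h2.le hx))
      have e : k * x * k⁻¹ = (k * S.hom bM) * x * (k * S.hom bM)⁻¹ := by
        calc k * x * k⁻¹ = k * (x * S.hom bM) * (S.hom bM)⁻¹ * k⁻¹ := by group
          _ = k * (S.hom bM * x) * (S.hom bM)⁻¹ * k⁻¹ := by rw [hxB.eq]
          _ = _ := by group
      rw [e]
      exact (h2.conj_iff (hflip hk hk1) (h2.le hx)).2 hx
  · have := h2.commutator_mem hα1 hυ1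
    rwa [← map_inv, ← map_inv, ← map_mul, ← map_mul, ← map_mul, hcomm, S.map_z] at this
  · have e : (S.cE ⊓ K1) ⊓ K2 = S.cE ⊓ K2 := by rw [inf_assoc, inf_eq_right.2 h2.le]
    have := h2.card_inf (L := S.cE ⊓ K1) inf_le_right (a := S.hom υ)
      (Subgroup.mem_inf.2 ⟨hmap hυb, hυ1⟩) hυ2
    rw [e, hE1] at this
    omega
  · by_cases h : S.hom α ∈ K2
    · exact Or.inl h
    · exact Or.inr (by rw [map_mul]; exact (h2.mul_iff _ hα1 _ hυ1).2 (iff_of_false h hυ2))

end CfsgLib.KGroups.M12TwoCentral.Emb
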