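import Cfsg.Agent.Lib.KGroups.M12TwoCentral.Count
import Cfsg.Agent.Lib.KGroups.M12Count
import Cfsg.Agent.S0421
import Cfsg.Prelude.Def_Spor_Mathieu

/-!
# Simple groups with an involution centraliser of order 192 as in the Mathieu group of degree twelve
-/

set_option autoImplicit false
set_option linter.unusedSectionVars false

namespace CfsgLib.KGroups.M12TwoCentral

open Hyp192 Subgroup CfsgLib.Involution.Dihedral

/-- An isomorphism of the centraliser with the model gives an embedding of the model. -/
theorem exists_emb {G : Type*} [Group G] [Finite G] (t : G) (ht : orderOf t = 2)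
    (f : Hyp192 ≃* ↥(centralizer ({t} : Set G))) : ∃ S : Emb G, S.t = t := by
  let c : ↥(centralizer ({t} : Set G)) := ⟨t, mem_centralizer_singleton_iff.2 rfl⟩
  have hz : f.symm c = zM := by
    refine eq_zM_of_central ?_ fun y => ?_
    · rw [MulEquiv.orderOf_eq, ← Subgroup.orderOf_coe]; exact ht
    · apply f.injective
      rw [map_mul, map_mul, MulEquiv.apply_symm_apply]
      exact Subtype.ext (mem_centralizer_singleton_iff.1 (f y).2)
  refine ⟨{ t := t
            hom := (centralizer ({t} : Set G)).subtype.comp f.toMonoidHom
            inj := Subtype.val_injective.comp f.injective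
            range_eq := ?_
            map_z := ?_ }, rfl⟩
  · ext g
    constructor
    · rintro ⟨x, rfl⟩; exact (f x).2
    · intro hg; exact ⟨f.symm ⟨g, hg⟩, by simp⟩
  · rw [← hz]; simp [c]

/-- A simple group with this centraliser of an involution is the Mathieu group of degree twelve. -/
theorem isoM12_of_equiv {G : Type*} [Group G] [Finite G] [IsSimpleGroup G] (hG : ¬ IsMulCommutative G)
    (t : G) (ht : orderOf t = 2) (f : Hyp192 ≃* ↥(centralizer ({t} : Set G))) :
    Cfsg.Spor.IsoM12 G := by
  obtain ⟨S, -⟩ := exists_emb t ht f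
  obtain ⟨e⟩ := Cfsg.Agent.S0421.result (G := G) ⟨inferInstance, S.card_eq hG⟩
    Cfsg.Spor.squareDodecad CfsgLib.KGroups.M12Count.square_mem
  exact ⟨e.trans CfsgLib.KGroups.M12Count.equivStab⟩

end CfsgLib.KGroups.M12TwoCentral
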