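import Mathlib

/-!
# The signed permutations of four coordinates with determinant one

A group of order 192. A code is a number below 192; its action on the eight signed coordinates is packed in
a single numeral, and a code is recovered from the images of the coordinates 0, 2, 4.
-/

set_option autoImplicit false
set_option maxRecDepth 40000

namespace CfsgLib.KGroups.M12TwoCentral

/-- The actions of all codes, packed. -/
def actTab : ℕ := 285773944069142770877214767409613319479565046488936159729573716653158365441381878561015895995716119086867985080515522550611838106200405552632628010361433273016444732446185236995767570534348643914505062772334965079234611861842432979330369415353266011239145122014868008607950733834745492524755666552500097826038466345224420262851575268087654775272112975848843230165414359657073208272434646889055479884509104522158316614385463082221403525162886674818284930131723007820761657224979627446839721108747461342316763153337511325596394483793389696779935811564035120058530363677772205847561257044588887394733313335571318210657358269686994033761279840566855136624254246077336307506762311738164994024991282207621237699070570673043233389294460671552156320713119503842857663281840601450664091208393240857391008580828591646790514009521951901271054400633931471381970934222084205729214792560616582510284619227842049871859151552984785334586648694269077260035641143836714797236081634095171428005431405576238143241673347236770739493623789704776680185054325438061632547954545211209136551844550714690474524979236848035170773104197704181570449225016798946616574391113765891056718701011275292119633942250990874217866505280037327396846064939880721896295523625867790631371885725106208417869915598753283330890858269025229401153103920051284043110514129506918567613292033535863393518649683685266256955289816176182920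

/-- The codes, packed by three images. -/
def idxTab : ℕ := 535205356511412131476249110735680650680589224671245034537289605429850399745405365850869223225423338582211081324082093706032008122525800989918584980846260838478424137265123885688999562383204830660493721386016737521228736222473419008792300223229689063906349188769673044585578950219832002831086718152269700633730858957018433124775041124893641742992159731289654321967687382233226839028450310064790960249287032716727995185438258800745096261331123293082450510213449886417642313690890661590912386077050059214911686051667272111930396025887600807108148235841715677412277856375952192817902584212975051829718303695949684210176834951732811000860642585235704210369740543689263864512963326144660406981730168360420192126698700672443931920133639655459389830964579102607006703830666626252295630281030869189809358023347195976489699152059563983375085063477296633659372765069215630769926968278666096707956128875858743811197511155719718848193779684294842544451808190907411678733556548089393930226713781216866822994065514321218892692741586002661512740919287359367904692813049478326143965347140199752926121508524850788158674103875665570676042091480878657343535134121483621596132789472537752059541833526542336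

/-- The codes of the inverses, packed. -/
def invTab : ℕ := 1805333769762482918298597310387966667142686957790010126232276581005125541280224347376825578898624484621895633910130505971535404466747731905057098753687906796614050065440857791558836332619779485255854059392839793340385965488892353436833447935312117519627872323278226751759252101444199739792284161213721915198463656546838019669646342506326644179181653990962375638957861655950971628936768091507869329583290540739559993508544448606475828338554354632436161020719923456

/-- The action of a code. -/
def actN (k q : ℕ) : ℕ := (actTab >>> (24 * k + 3 * q)) % 8

/-- The code with three given images. -/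
def codeN (a b c : ℕ) : ℕ := (idxTab >>> (8 * (64 * a + 8 * b + c))) % 256

/-- The product of codes. -/
def mulN (k l : ℕ) : ℕ := codeN (actN k (actN l 0)) (actN k (actN l 2)) (actN k (actN l 4))

/-- The inverse of a code. -/
def invN (k : ℕ) : ℕ := (invTab >>> (8 * k)) % 256

/-- The product is a code with the composed action on the even coordinates. -/
def chkMul (k l : ℕ) : Bool :=
  Nat.blt (mulN k l) 192 && Nat.beq (actN (mulN k l) 0) (actN k (actN l 0)) &&
    Nat.beq (actN (mulN k l) 2) (actN k (actN l 2)) && Nat.beq (actN (mulN k l) 4) (actN k (actN l 4)) &&
    Nat.beq (actN (mulN k l) 6) (actN k (actN l 6))

/-- The partner of a coordinate. -/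
def flipC (q : ℕ) : ℕ := if q % 2 = 0 then q + 1 else q - 1

theorem chk_mul_block0 : ((List.range 48).all fun k => (List.range 192).all fun l => chkMul k l) = true := by
  decide +kernel

theorem chk_mul_block1 : ((List.range 48).all fun k => (List.range 192).all fun l => chkMul (48 + k) l) = true := by
  decide +kernel

theorem chk_mul_block2 : ((List.range 48).all fun k => (List.range 192).all fun l => chkMul (96 + k) l) = true := by
  decide +kernel

theorem chk_mul_block3 : ((List.range 48).all fun k => (List.range 192).all fun l => chkMul (144 + k) l) = true := by
  decide +kernel

theorem chkMul_true {k l : ℕ} (hk : k < 192) (hl : l < 192) : chkMul k l = true := by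
  have key : ∀ {o : ℕ}, ((List.range 48).all fun i => (List.range 192).all fun l => chkMul (o + i) l) = true →
      o ≤ k → k < o + 48 → chkMul k l = true := fun {o} h h1 h2 => by
    have := List.all_eq_true.1 (List.all_eq_true.1 h (k - o) (List.mem_range.2 (by omega))) l (List.mem_range.2 hl)
    rwa [Nat.add_sub_cancel' h1] at this
  rcases Nat.lt_or_ge k 48 with h | h
  · exact key (o := 0) (by simpa using chk_mul_block0) (Nat.zero_le _) (by omega)
  rcases Nat.lt_or_ge k 96 with h' | h'
  · exact key chk_mul_block1 h (by omega)
  rcases Nat.lt_or_ge k 144 with h'' | h''
  · exact key chk_mul_block2 h' (by omega)
  · exact key chk_mul_block3 h'' (by omega)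

theorem mulN_lt {k l : ℕ} (hk : k < 192) (hl : l < 192) : mulN k l < 192 := by
  have h := chkMul_true hk hl
  simp only [chkMul, Bool.and_eq_true] at h
  exact Nat.le_of_ble_eq_true h.1.1.1.1

theorem actN_flip : ∀ k < 192, ∀ q < 8, actN k (flipC q) = flipC (actN k q) := by decide +kernel

theorem actN_mulN {k l q : ℕ} (hk : k < 192) (hl : l < 192) (hq : q < 8) :
    actN (mulN k l) q = actN k (actN l q) := by
  have h := chkMul_true hk hl
  simp only [chkMul, Bool.and_eq_true, Nat.beq_eq] at h
  have hodd : ∀ p, p < 8 → actN (mulN k l) p = actN k (actN l p) →
      actN (mulN k l) (flipC p) = actN k (actN l (flipC p)) := fun p hp e => by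
    rw [actN_flip _ (mulN_lt hk hl) _ hp, e, actN_flip _ hl _ hp,
      actN_flip k hk (actN l p) (Nat.mod_lt _ (by norm_num))]
  obtain ⟨⟨⟨⟨-, h0⟩, h2⟩, h4⟩, h6⟩ := h
  interval_cases q
  exacts [h0, hodd 0 (by norm_num) h0, h2, hodd 2 (by norm_num) h2, h4, hodd 4 (by norm_num) h4, h6,
    hodd 6 (by norm_num) h6]

theorem invN_lt : ∀ k < 192, invN k < 192 := by decide +kernel

theorem actN_invN : ∀ k < 192, ∀ q < 8, actN (invN k) (actN k q) = q := by decide +kernel

theorem codeN_actN : ∀ k < 192, codeN (actN k 0) (actN k 2) (actN k 4) = k := by decide +kernel

theorem actN_zero : ∀ q < 8, actN 0 q = q := by decide +kernel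

/-- The group of signed permutations of determinant one. -/
structure Hyp192 where
  /-- The code. -/
  code : Fin 192
  deriving DecidableEq

namespace Hyp192

/-- The bijection with the codes. -/
def equivFin : Hyp192 ≃ Fin 192 := ⟨Hyp192.code, Hyp192.mk, fun _ => rfl, fun _ => rfl⟩

instance : Fintype Hyp192 := Fintype.ofEquiv (Fin 192) equivFin.symm

theorem card_eq : Nat.card Hyp192 = 192 := by rw [Nat.card_congr equivFin, Nat.card_fin]

/-- The action on the eight signed coordinates. -/
def act (a : Hyp192) (q : Fin 8) : Fin 8 := ⟨actN a.code.val q.val, Nat.mod_lt _ (by norm_num)⟩

theorem act_injective : Function.Injective act := fun a b h => by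
  have e : ∀ q : Fin 8, actN a.code.val q.val = actN b.code.val q.val := fun q =>
    congrArg Fin.val (congrFun h q)
  refine equivFin.injective (Fin.ext ?_)
  show a.code.val = b.code.val
  rw [← codeN_actN a.code.val a.code.2, ← codeN_actN b.code.val b.code.2, show actN a.code.val 0 = _ from e 0,
    show actN a.code.val 2 = _ from e 2, show actN a.code.val 4 = _ from e 4]
  rfl

instance : Mul Hyp192 := ⟨fun a b => ⟨⟨mulN a.code.val b.code.val, mulN_lt a.code.2 b.code.2⟩⟩⟩
instance : One Hyp192 := ⟨⟨0⟩⟩
instance : Inv Hyp192 := ⟨fun a => ⟨⟨invN a.code.val, invN_lt _ a.code.2⟩⟩⟩

theorem act_mul (a b : Hyp192) (q : Fin 8) : act (a * b) q = act a (act b q) :=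
  Fin.ext (actN_mulN a.code.2 b.code.2 q.2)

theorem act_one (q : Fin 8) : act 1 q = q := Fin.ext (actN_zero _ q.2)

theorem act_inv (a : Hyp192) (q : Fin 8) : act a⁻¹ (act a q) = q := Fin.ext (actN_invN _ a.code.2 _ q.2)

instance : Group Hyp192 :=
  Group.ofLeftAxioms
    (fun a b c => act_injective (funext fun q => by rw [act_mul, act_mul, act_mul, act_mul]))
    (fun a => act_injective (funext fun q => by rw [act_mul, act_one]))
    (fun a => act_injective (funext fun q => by rw [act_mul, act_inv, act_one]))

end Hyp192

end CfsgLib.KGroups.M12TwoCentral
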