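import Cfsg.Agent.Lib.KGroups.M12TwoCentral.Index
import Cfsg.Agent.Lib.LocalEvenB.HSubgroup

/-!
# The possible orders of the centraliser of the second class of involutions
-/

set_option autoImplicit false
set_option linter.unusedSectionVars false
set_option linter.style.haveILetI false

namespace CfsgLib.KGroups.M12TwoCentral.Emb

open Hyp192 Subgroup CfsgLib.Involution.Dihedral

variable {G : Type*} [Group G] [Finite G] [IsSimpleGroup G] {S : Emb G} {K2 : Subgroup G} {α υ : Hyp192}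

/-- An involution without fixed points inverts a subgroup of odd order. -/
theorem inverts {O : Subgroup G} {v : G} (hv : orderOf v = 2) (hn : ∀ x ∈ O, v * x * v⁻¹ ∈ O)
    (hf : ∀ x ∈ O, Commute x v → x = 1) : ∀ x ∈ O, v * x * v⁻¹ = x⁻¹ := by
  let φ : O →* O := MonoidHom.mk' (fun a => ⟨v * a.1 * v⁻¹, hn a.1 a.2⟩) fun a b =>
    Subtype.ext (show v * (a.1 * b.1) * v⁻¹ = v * a.1 * v⁻¹ * (v * b.1 * v⁻¹) by group)
  have hfpf : MonoidHom.FixedPointFree φ := fun a ha => Subtype.ext (hf a.1 a.2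
    (mul_inv_eq_iff_eq_mul.1 (congrArg Subtype.val ha : v * a.1 * v⁻¹ = a.1)).symm)
  have hinv : Function.Involutive φ := fun a => Subtype.ext (by
    change v * (v * a.1 * v⁻¹) * v⁻¹ = a.1
    calc v * (v * a.1 * v⁻¹) * v⁻¹ = (v * v) * a.1 * (v * v)⁻¹ := by group
      _ = a.1 := by rw [mul_self hv]; group)
  intro x hx
  exact congrArg Subtype.val (congrFun (hfpf.coe_eq_inv_of_involutive hinv) ⟨x, hx⟩)

theorem eq_one_of_odd_dvd {x : G} (h : Odd (orderOf x)) {n : ℕ} (hn : orderOf x ∣ 2 ^ n) : x = 1 := by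
  obtain ⟨k, -, hk⟩ := (Nat.dvd_prime_pow Nat.prime_two).1 hn
  rcases k with _ | k
  · exact orderOf_eq_one_iff.1 (by simpa using hk)
  · rw [hk] at h
    exact absurd h (by simp [Nat.odd_pow_iff])

namespace Quarter

variable (D : S.Quarter K2 α υ)
include D

theorem alpha_facts : α ∈ centralizer ({bM} : Set Hyp192) ∧ orderOf α = 2 ∧ S.hom α ∈ S.cE ∧
    S.hom υ ∈ S.cE ∧ α⁻¹ * υ⁻¹ * (α * υ) = zM ∧ (α * υ) * (α * υ) = zM := by
  obtain ⟨h1, h2, -, -, -, hu, ha, ho, -⟩ := choice_facts α υ D.hα D.hυ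
  exact ⟨ha, ho, mem_map_of_mem _ ha, mem_map_of_mem _ hu, h1, h2⟩

/-- An odd subgroup of `K2` normalised by the Sylow subgroup is trivial. -/
theorem odd_trivial (hG : ¬ IsMulCommutative G) {O : Subgroup G} (hle : O ≤ K2) (hodd : Odd (Nat.card O))
    (hnt : ∀ x ∈ O, S.t * x * S.t⁻¹ ∈ O) (hna : ∀ x ∈ O, S.hom α * x * (S.hom α)⁻¹ ∈ O) : O = ⊥ := by
  have hox : ∀ x ∈ O, Odd (orderOf x) := fun x hx => hodd.of_dvd_nat (O.orderOf_dvd_natCard hx)
  have hft : ∀ x ∈ O, Commute x S.t → x = 1 := fun x hx hc => by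
    refine eq_one_of_odd_dvd (n := 4) (hox x hx) ?_
    exact (S.cE.orderOf_dvd_natCard (S.mem_cE (D.le (hle hx)) hc)).trans (by rw [S.card_cE]; norm_num)
  have hfix : ∀ β : Hyp192, (β = aM ∨ β = zaM ∨ β = aM * bM ∨ β = zaM * bM) →
      ∀ x ∈ O, Commute x (S.hom β) → x = 1 := by
    intro β hβ x hx hc
    have hB := S.commute_B (D.le (hle hx))
    have key : ∀ γ, IsConj aM γ → Commute γ bM → Commute x (S.hom γ) → x = 1 := fun γ h1 h2 h3 => by
      refine eq_one_of_odd_dvd (n := 4) (hox x hx) ?_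
      exact (Subgroup.orderOf_dvd_natCard _ (Subgroup.mem_inf.2
        ⟨mem_centralizer_singleton_iff.2 h3.eq, mem_centralizer_singleton_iff.2 hB.eq⟩)).trans
        ((S.card_cent_a_b hG h1 h2).trans (by norm_num))
    have hback : ∀ γ, Commute x (S.hom (γ * bM)) → Commute x (S.hom γ) := fun γ h => by
      have := h.mul_right hB
      rwa [← map_mul, mul_assoc, mul_self orders.2.2.2.1, mul_one] at this
    rcases hβ with rfl | rfl | rfl | rfl
    · exact key _ (IsConj.refl _) rep_facts.2.2.2.2.1 hc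
    · exact key _ rep_facts.2.1 rep_facts.2.2.2.2.2.2.1 hc
    · exact key _ (IsConj.refl _) rep_facts.2.2.2.2.1 (hback _ hc)
    · exact key _ rep_facts.2.1 rep_facts.2.2.2.2.2.2.1 (hback _ hc)
  have hza : zM * α = zaM ∨ zM * α = zaM * bM := by
    rcases D.hα with rfl | rfl
    · exact Or.inl rep_facts.1
    · exact Or.inr (by rw [← mul_assoc, rep_facts.1])
  have hαcases : α = aM ∨ α = zaM ∨ α = aM * bM ∨ α = zaM * bM := by
    rcases D.hα with h | h
    · exact Or.inl h
    · exact Or.inr (Or.inr (Or.inl h))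
  have h1 := inverts S.orderOf_t hnt hft
  have h2 := inverts ((S.orderOf_hom α).trans D.alpha_facts.2.1) hna (hfix α hαcases)
  refine (Subgroup.eq_bot_iff_forall O).2 fun x hx => hfix (zM * α) ?_ x hx ?_
  · rcases hza with h | h
    · exact Or.inr (Or.inl h)
    · exact Or.inr (Or.inr (Or.inr h))
  · have e : (S.t * S.hom α) * x * (S.t * S.hom α)⁻¹ = x := by
      calc (S.t * S.hom α) * x * (S.t * S.hom α)⁻¹ = S.t * (S.hom α * x * (S.hom α)⁻¹) * S.t⁻¹ := by group
        _ = S.t * x⁻¹ * S.t⁻¹ := by rw [h2 x hx]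
        _ = (x⁻¹)⁻¹ := h1 _ (O.inv_mem hx)
        _ = x := inv_inv x
    rw [map_mul, S.map_z]
    exact (mul_inv_eq_iff_eq_mul.1 e).symm

theorem card_K2 : ∃ m, Nat.card K2 = 4 * m ∧ ¬ 2 ∣ m := by
  have e2 := (S.cE.subgroupOf S.cB).card_mul_index
  rw [Nat.card_congr (Subgroup.subgroupOfEquivOfLe S.cE_le).toEquiv, S.card_cE, D.card] at e2
  exact ⟨(S.cE.subgroupOf S.cB).index, by omega, S.not_two_dvd_index⟩

theorem not_two_dvd_index2 : ¬ 2 ∣ ((S.cE ⊓ K2).subgroupOf K2).index := by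
  obtain ⟨m, hm, hodd⟩ := D.card_K2
  have e1 := ((S.cE ⊓ K2).subgroupOf K2).card_mul_index
  rw [Nat.card_congr (Subgroup.subgroupOfEquivOfLe (inf_le_right : S.cE ⊓ K2 ≤ K2)).toEquiv, D.card_inf, hm] at e1
  omega

theorem card_eq_four (hG : ¬ IsMulCommutative G) (h : Cfsg.HasNormalPComplement 2 K2) : Nat.card K2 = 4 := by
  haveI : Fact (Nat.Prime 2) := ⟨Nat.prime_two⟩
  obtain ⟨P, N, hN, hcompl⟩ := h
  obtain ⟨m, hm, hodd⟩ := D.card_K2
  obtain ⟨k, hk⟩ := IsPGroup.iff_card.1 P.2
  have hmul := hcompl.card_mul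
  have hNodd : Odd (Nat.card N) := by
    have hidx : (P : Subgroup K2).index = Nat.card N := Subgroup.IsComplement'.index_eq_card hcompl
    rw [Nat.odd_iff, ← Nat.two_dvd_ne_zero, ← hidx]
    exact P.not_dvd_index
  have hmem : ∀ x : K2, Odd (orderOf x) → x ∈ N := fun x hx => by
    haveI := hN
    have hq : orderOf (QuotientGroup.mk' N x) ∣ 2 ^ k := by
      have : Nat.card (K2 ⧸ N) = 2 ^ k := by
        rw [← hk]; exact Subgroup.IsComplement'.index_eq_card (Subgroup.IsComplement'.symm hcompl)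
      rw [← this]; exact orderOf_dvd_natCard _
    have hq2 : orderOf (QuotientGroup.mk' N x) ∣ orderOf x := orderOf_map_dvd _ x
    obtain ⟨j, -, hj⟩ := (Nat.dvd_prime_pow Nat.prime_two).1 hq
    rcases j with _ | j
    · exact (QuotientGroup.eq_one_iff x).1 (orderOf_eq_one_iff.1 (by simpa using hj))
    · rw [hj] at hq2
      exact absurd (hx.of_dvd_nat hq2) (by simp [Nat.odd_pow_iff])
  have hbot : N.map K2.subtype = ⊥ := by
    have hn : ∀ k ∈ S.cB, ∀ x ∈ N.map K2.subtype, k * x * k⁻¹ ∈ N.map K2.subtype := by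
      rintro k hk _ ⟨y, hy, rfl⟩
      refine ⟨⟨k * (y : G) * k⁻¹, D.conj k hk _ y.2⟩, hmem _ ?_, rfl⟩
      rw [← Subgroup.orderOf_coe]
      show Odd (orderOf (k * (y : G) * k⁻¹))
      rw [orderOf_conj, Subgroup.orderOf_coe]
      exact hNodd.of_dvd_nat (N.orderOf_dvd_natCard hy)
    refine D.odd_trivial hG (Subgroup.map_subtype_le N)
      (by rw [Nat.card_congr (Subgroup.equivMapOfInjective N K2.subtype Subtype.val_injective).toEquiv.symm]
          exact hNodd)
      (fun x hx => hn _ (D.le D.t_mem) x hx) (fun x hx => hn _ (S.cE_le D.alpha_facts.2.2.1) x hx)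
  have hN1 : Nat.card N = 1 := by
    rw [Nat.card_congr (Subgroup.equivMapOfInjective N K2.subtype Subtype.val_injective).toEquiv, hbot,
      Subgroup.card_bot]
  rw [hN1, one_mul, hk, hm] at hmul
  have hm1 : m = 1 := by
    have hd : m ∣ 2 ^ k := ⟨4, by rw [hmul]; ring⟩
    obtain ⟨j, -, rfl⟩ := (Nat.dvd_prime_pow Nat.prime_two).1 hd
    rcases j with _ | j
    · rfl
    · exact absurd (dvd_pow_self 2 (Nat.succ_ne_zero j)) hodd
  omega

end Quarter

theorem card_oddZ_small (hG : ¬ IsMulCommutative G) (h : Nat.card S.cB = 16) :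
    Nat.card (OddZ S.t (S.hom bM)) = 3 := by
  classical
  have hK : S.cB = S.cE := (Subgroup.eq_of_le_of_card_ge S.cE_le (by rw [h, S.card_cE])).symm
  have hset : ∀ x : G, (IsConj S.t x ∧ Commute x (S.hom bM)) ↔
      x ∈ ({S.t, S.hom aM, S.hom zaM} : Finset G) := by
    intro x
    simp only [Finset.mem_insert, Finset.mem_singleton]
    constructor
    · rintro ⟨hz, hc⟩
      have hx : x ∈ S.cE := hK ▸ (mem_centralizer_singleton_iff.2 hc.eq : x ∈ S.cB)
      obtain ⟨p, hp, rfl⟩ := hx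
      have hp2 : orderOf p = 2 := by rw [← S.orderOf_hom, S.orderOf_of_isConj hz]
      rcases sq_of_comm_b (mem_centralizer_singleton_iff.1 hp) (mul_self hp2) with rfl | rfl | rfl | rfl | hb
      · simp at hp2
      · exact Or.inl S.map_z
      · exact Or.inr (Or.inl rfl)
      · exact Or.inr (Or.inr rfl)
      · exact (S.not_conj_t_of_b hb hz).elim
    · rintro (rfl | rfl | rfl)
      · exact ⟨IsConj.refl _, (S.commute_t bM).symm⟩
      · exact ⟨S.conj_a hG, rep_facts.2.2.2.2.1.map S.hom⟩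
      · exact ⟨(S.conj_a hG).trans (S.hom.map_isConj rep_facts.2.1), rep_facts.2.2.2.2.2.2.1.map S.hom⟩
  have hcomm : ∀ x ∈ ({S.t, S.hom aM, S.hom zaM} : Finset G), ∀ y ∈ ({S.t, S.hom aM, S.hom zaM} : Finset G),
      Commute x y := by
    simp only [Finset.mem_insert, Finset.mem_singleton]
    rintro x (rfl | rfl | rfl) y (rfl | rfl | rfl) <;> rw [← S.map_z] at * <;>
      exact (commute_iff.2 (by decide +kernel)).map S.hom
  have hdiag : OddZ S.t (S.hom bM) = ↑(({S.t, S.hom aM, S.hom zaM} : Finset G).image fun x => (x, x)) := by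
    ext ⟨x, y⟩
    simp only [OddZ, Set.mem_setOf_eq, Finset.coe_image, Set.mem_image, Finset.mem_coe, Prod.mk.injEq]
    rw [hset, hset]
    constructor
    · rintro ⟨hx, hy, hodd⟩
      refine ⟨x, hx, rfl, ?_⟩
      have hx2 := mul_self (S.orderOf_of_isConj ((hset x).2 hx).1)
      have hy2 := mul_self (S.orderOf_of_isConj ((hset y).2 hy).1)
      have h2 : (x * y) * (x * y) = 1 := by
        rw [(hcomm y hy x hx).mul_mul_mul_comm, hx2, hy2, one_mul]
      have hd : orderOf (x * y) ∣ 2 := orderOf_dvd_of_pow_eq_one (by rw [pow_two, h2])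
      have h1 : x * y = 1 := eq_one_of_odd_dvd (n := 1) hodd (by simpa using hd)
      rw [← inv_eq_of_mul_eq_one_right hx2]
      exact inv_eq_of_mul_eq_one_right h1
    · rintro ⟨w, hw, rfl, rfl⟩
      exact ⟨hw, hw, by rw [mul_self (S.orderOf_of_isConj ((hset w).2 hw).1), orderOf_one]; exact odd_one⟩
  rw [hdiag, Nat.card_coe_set_eq, Set.ncard_coe_finset,
    Finset.card_image_of_injective _ fun x y h => congrArg Prod.fst h]
  have hd : ∀ p q : Hyp192, p ≠ q → S.hom p ≠ S.hom q := fun p q h e => h (S.inj e)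
  rw [Finset.card_insert_of_notMem (by
      simp only [Finset.mem_insert, Finset.mem_singleton, not_or, ← S.map_z]
      exact ⟨hd _ _ (by decide +kernel), hd _ _ (by decide +kernel)⟩),
    Finset.card_pair (hd _ _ (by decide +kernel))]

/-- The order of `C(B)` and the number of pairs with a power equal to `B`. -/
theorem card_data (hG : ¬ IsMulCommutative G) (S : Emb G) :
    (Nat.card S.cB = 16 ∧ Nat.card (OddZ S.t (S.hom bM)) = 3) ∨
    (Nat.card S.cB = 48 ∧ Nat.card (OddZ S.t (S.hom bM)) = 3) ∨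
    (Nat.card S.cB = 240 ∧ Nat.card (OddZ S.t (S.hom bM)) = 195) := by
  classical
  haveI : Fact (Nat.Prime 2) := ⟨Nat.prime_two⟩
  obtain ⟨K2, α, υ, D⟩ := S.exists_quarter hG
  by_cases hnc : Cfsg.HasNormalPComplement 2 K2
  · have h16 : Nat.card S.cB = 16 := by rw [D.card, D.card_eq_four hG hnc]
    exact Or.inl ⟨h16, card_oddZ_small hG h16⟩
  have hE2 : IsPGroup 2 ↥((S.cE ⊓ K2).subgroupOf K2) :=
    (S.isPGroup_cE.to_le inf_le_left).of_equiv (Subgroup.subgroupOfEquivOfLe inf_le_right).symm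
  let P : Sylow 2 K2 := hE2.toSylow D.not_two_dvd_index2
  have hPcard : Nat.card (P : Subgroup K2) = 4 :=
    (Nat.card_congr (Subgroup.subgroupOfEquivOfLe (inf_le_right : S.cE ⊓ K2 ≤ K2)).toEquiv).trans D.card_inf
  obtain ⟨hαb, hαo, hαE, hυE, -, hsq⟩ := D.alpha_facts
  have hα2 : S.hom α ∈ K2 := by
    refine D.or_mem.resolve_right fun hw => hnc ?_
    let w : K2 := ⟨S.hom (α * υ), hw⟩
    have hwP : w ∈ (P : Subgroup K2) := Subgroup.mem_subgroupOf.2 (Subgroup.mem_inf.2
      ⟨by show S.hom (α * υ) ∈ S.cE; rw [map_mul]; exact S.cE.mul_mem hαE hυE, hw⟩)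
    have hw4 : orderOf w = 2 ^ (1 + 1) := by
      refine orderOf_eq_prime_pow ?_ ?_
      · intro h
        have : S.t = 1 := by
          rw [← S.map_z, ← hsq, ← pow_two, map_pow]
          have h' : (w : G) ^ 2 = 1 := by simpa using congrArg Subtype.val h
          exact h'
        exact ne_one S.orderOf_t this
      · refine Subtype.ext ?_
        rw [Subgroup.coe_pow]
        show S.hom (α * υ) ^ (2 ^ (1 + 1)) = 1
        rw [pow_succ, pow_one, pow_mul, pow_two, pow_two, ← map_mul, hsq, S.map_z, mul_self S.orderOf_t]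
    haveI : IsCyclic (P : Subgroup K2) := isCyclic_of_orderOf_eq_card ⟨w, hwP⟩ (by
      rw [Subgroup.orderOf_mk, hw4, hPcard]; norm_num)
    exact CfsgLib.LocalEvenB.HSubgroup.npc_of_cyclic (fun q hq _ => hq.two_le) P
  set t2 : K2 := ⟨S.t, D.t_mem⟩
  have htP : t2 ∈ P := Subgroup.mem_subgroupOf.2 (Subgroup.mem_inf.2
    ⟨by show S.t ∈ S.cE; rw [← S.map_z]; exact mem_map_of_mem _ (mem_centralizer_singleton_iff.2 (zM_central bM).eq.symm),
      D.t_mem⟩)
  have hto : orderOf t2 = 2 := by rw [← Subgroup.orderOf_coe]; exact S.orderOf_t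
  set a2 : K2 := ⟨S.hom α, hα2⟩
  have haP : a2 ∈ P := Subgroup.mem_subgroupOf.2 (Subgroup.mem_inf.2 ⟨hαE, hα2⟩)
  have hne : t2 ≠ a2 := fun e => by
    have := S.inj ((S.map_z).trans (congrArg Subtype.val e))
    rcases D.hα with rfl | rfl <;> revert this <;> decide +kernel
  have hao : orderOf a2 = 2 := by rw [← Subgroup.orderOf_coe]; exact (S.orderOf_hom α).trans hαo
  have hta : Commute t2 a2 := Subtype.ext (S.commute_t α).symm.eq
  have hklein : IsKleinFour (P : Subgroup K2) := by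
    have htt := mul_self hto
    have haa := mul_self hao
    have h4 : ({1, t2, a2, t2 * a2} : Finset K2).card = 4 := by
      rw [Finset.card_insert_of_notMem, Finset.card_insert_of_notMem, Finset.card_pair]
      · exact fun e => ne_one hto (mul_eq_right.1 e.symm)
      · simp only [Finset.mem_insert, Finset.mem_singleton, not_or]
        exact ⟨hne, fun e => ne_one hao (mul_eq_left.1 e.symm)⟩
      · simp only [Finset.mem_insert, Finset.mem_singleton, not_or]
        exact ⟨(ne_one hto).symm, (ne_one hao).symm, fun e => hne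
          ((inv_eq hto).symm.trans (inv_eq_of_mul_eq_one_right e.symm))⟩
    haveI := Fintype.ofFinite K2
    have hall : ∀ v ∈ (P : Subgroup K2), v * v = 1 := fun v hv => by
      have hsub : ({1, t2, a2, t2 * a2} : Finset K2) ⊆ Finset.univ.filter fun v => v ∈ (P : Subgroup K2) := by
        intro x hx
        simp only [Finset.mem_insert, Finset.mem_singleton] at hx
        simp only [Finset.mem_filter, Finset.mem_univ, true_and]
        rcases hx with rfl | rfl | rfl | rfl
        exacts [one_mem _, htP, haP, mul_mem htP haP]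
      have he := Finset.eq_of_subset_of_card_le hsub (by
        rw [h4, ← Fintype.card_subtype, ← Nat.card_eq_fintype_card]
        exact le_of_eq hPcard)
      have hv' : v ∈ ({1, t2, a2, t2 * a2} : Finset K2) := he ▸ Finset.mem_filter.2 ⟨Finset.mem_univ _, hv⟩
      simp only [Finset.mem_insert, Finset.mem_singleton] at hv'
      rcases hv' with rfl | rfl | rfl | rfl
      exacts [one_mul 1, htt, haa, by rw [hta.symm.mul_mul_mul_comm, htt, haa, one_mul]]
    refine ⟨hPcard, ?_⟩
    refine le_antisymm (Nat.le_of_dvd (by norm_num) (Monoid.exponent_dvd_of_forall_pow_eq_one fun v =>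
      Subtype.ext (by rw [Subgroup.coe_pow, pow_two]; exact hall v v.2))) ?_
    refine Nat.le_of_dvd (Nat.pos_of_ne_zero Monoid.exponent_ne_zero_of_finite) ?_
    have := Monoid.order_dvd_exponent (⟨t2, htP⟩ : (P : Subgroup K2))
    rwa [Subgroup.orderOf_mk, hto] at this
  have hC : Nat.card (centralizer ({t2} : Set K2)) = 4 := by
    have e : centralizer ({t2} : Set K2) = (P : Subgroup K2) := by
      refine le_antisymm (fun x hx => ?_) fun x hx =>
        mem_centralizer_singleton_iff.2 (CfsgLib.Involution.KleinSylow.comm P hklein hx htP)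
      exact Subgroup.mem_subgroupOf.2 (Subgroup.mem_inf.2 ⟨S.mem_cE (D.le x.2)
        (congrArg Subtype.val (mem_centralizer_singleton_iff.1 hx)), x.2⟩)
    rw [e, hPcard]
  have hall := fun {x : K2} (hx : orderOf x = 2) => FourSylow.all_conj P hklein hto htP hC hnc hx
  have hzall : ∀ x : K2, orderOf x = 2 → IsConj S.t (x : G) := fun x hx => K2.subtype.map_isConj (hall hx)
  have hαa : α = aM := by
    refine D.hα.resolve_right ?_
    rintro rfl
    exact S.not_conj_t_of_b rep_facts.2.2.2.2.2.2.2.2.1 (hzall a2 hao)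
  have hX : ∀ x : G, IsConj S.t x → Commute x (S.hom bM) → x ∈ K2 := by
    intro x hz hc
    have hxK : x ∈ S.cB := mem_centralizer_singleton_iff.2 hc.eq
    obtain ⟨k, hk, p, hp, hpe⟩ := S.ztype hxK hz
    have hpK : S.hom p ∈ K2 := by
      rcases hp with rfl | rfl | rfl
      · rw [S.map_z]; exact D.t_mem
      · rw [← hαa]; exact hα2
      · rw [← rep_facts.1, map_mul, S.map_z, ← hαa]; exact K2.mul_mem D.t_mem hα2
    have := D.conj k⁻¹ (S.cB.inv_mem hk) _ hpK
    rwa [hpe, show k⁻¹ * (k * x * k⁻¹) * k⁻¹⁻¹ = x by group] at this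
  have hcount : Nat.card (OddZ S.t (S.hom bM)) = Nat.card (FourSylow.OddInv K2) := by
    refine Nat.card_congr
      { toFun := fun p => ⟨(⟨p.1.1, hX _ p.2.1.1 p.2.1.2⟩, ⟨p.1.2, hX _ p.2.2.1.1 p.2.2.1.2⟩),
          by rw [← Subgroup.orderOf_coe]; exact S.orderOf_of_isConj p.2.1.1,
          by rw [← Subgroup.orderOf_coe]; exact S.orderOf_of_isConj p.2.2.1.1,
          by rw [← Subgroup.orderOf_coe]; exact p.2.2.2⟩
        invFun := fun p => ⟨((p.1.1 : G), (p.1.2 : G)),
          ⟨hzall _ p.2.1, S.commute_B (D.le p.1.1.2)⟩, ⟨hzall _ p.2.2.1, S.commute_B (D.le p.1.2.2)⟩,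
          by rw [← Subgroup.coe_mul, Subgroup.orderOf_coe]; exact p.2.2.2⟩
        left_inv := fun p => rfl
        right_inv := fun p => rfl }
  rcases FourSylow.card_cases P hklein hto htP hC hnc with h | h
  · exact Or.inr (Or.inl ⟨by rw [D.card, h],
      by rw [hcount, FourSylow.card_oddInv P hklein hto htP hC hnc (I := 3) (by rw [h])]⟩)
  · exact Or.inr (Or.inr ⟨by rw [D.card, h],
      by rw [hcount, FourSylow.card_oddInv P hklein hto htP hC hnc (I := 15) (by rw [h])]⟩)

end CfsgLib.KGroups.M12TwoCentral.Emb
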